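import Mathlib
import Cfsg.Agent.S3183
import Cfsg.Agent.InvChar.CentralIntersections
import Cfsg.Agent.InvChar.Core
import Cfsg.Agent.Lib.ZStar.CyclicIntersections.Reduced

/-!
# Groups in which a noncentral element of a Sylow 2-subgroup lies in no other one: basic facts
-/

set_option autoImplicit false
set_option linter.style.haveILetI false
set_option linter.unusedSectionVars false

namespace Cfsg.Agent.CISylow

open Subgroup
open scoped Pointwise
open Cfsg.Agent.ZStar.CyclicIntersections (conj_mem_smul mem_smul exists_lift exists_sylow_lift)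

variable {G H : Type*} [Group G] [Group H]

/-- An element lying in two Sylow 2-subgroups is central in them. -/
def CI (G : Type*) [Group G] : Prop :=
  ∀ S T : Sylow 2 G, S ≠ T → ∀ x ∈ (S : Subgroup G), x ∈ (T : Subgroup G) →
    ∀ s ∈ (S : Subgroup G), Commute x s

theorem ci_of_hyp [Finite G]
    (hCI : ∀ S T : Sylow 2 G, S ≠ T → ∃ U : Sylow 2 G,
      (S : Subgroup G) ⊓ (T : Subgroup G) ≤ (center ↥(U : Subgroup G)).map (U : Subgroup G).subtype) :
    CI G := by
  intro S T hne x hxS hxT s hs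
  obtain ⟨z, hz, rfl⟩ := (((S3183.result hCI S).2 T hne.symm) ⟨hxS, hxT⟩).1
  exact (congrArg Subtype.val (mem_center_iff.1 hz ⟨s, hs⟩)).symm

theorem CI.hyp (hC : CI G) : ∀ S T : Sylow 2 G, S ≠ T → ∃ U : Sylow 2 G,
    (S : Subgroup G) ⊓ (T : Subgroup G) ≤ (center ↥(U : Subgroup G)).map (U : Subgroup G).subtype := by
  intro S T hne
  refine ⟨S, fun x hx => ⟨⟨x, hx.1⟩, mem_center_iff.2 fun s => ?_, rfl⟩⟩
  exact Subtype.ext (hC S T hne x hx.1 hx.2 s s.2).eq.symm

theorem CI.subgroup (hC : CI G) (K : Subgroup G) : CI ↥K := by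
  intro S T hST x hxS hxT s hs
  obtain ⟨S', hS'⟩ := (S.isPGroup'.map K.subtype).exists_le_sylow
  obtain ⟨T', hT'⟩ := (T.isPGroup'.map K.subtype).exists_le_sylow
  have key : ∀ (U : Sylow 2 K) (V : Sylow 2 G), (U : Subgroup K).map K.subtype ≤ V →
      (V : Subgroup G).subgroupOf K = (U : Subgroup K) := fun U V h =>
    U.is_maximal' V.isPGroup'.comap_subtype fun x hx => h (mem_map_of_mem _ hx)
  have hne : S' ≠ T' := by
    rintro rfl
    exact hST (Sylow.ext ((key S S' hS').symm.trans (key T S' hT')))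
  exact Subtype.ext (hC S' T' hne (x : G) (hS' (mem_map_of_mem _ hxS)) (hT' (mem_map_of_mem _ hxT))
    s (hS' (mem_map_of_mem _ hs))).eq

theorem CI.map [Finite G] (hC : CI G) {f : G →* H} (hf : Function.Surjective f) : CI H := by
  intro S T hST x hxS hxT s hs
  have hX : IsPGroup 2 ↥(zpowers x) := S.isPGroup'.to_le (zpowers_le.2 hxS)
  obtain ⟨D, hD, -, hmap⟩ := exists_lift hf hX (D₀ := ⊥) IsPGroup.of_bot bot_le
  have hle : ∀ U : Sylow 2 H, x ∈ (U : Subgroup H) → D ≤ (U : Subgroup H).comap f := fun U hU =>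
    map_le_iff_le_comap.mp (hmap.le.trans (zpowers_le.2 hU))
  obtain ⟨S₁, hS₁, hSmap⟩ := exists_sylow_lift hf S hD (hle S hxS)
  obtain ⟨T₁, hT₁, hTmap⟩ := exists_sylow_lift hf T hD (hle T hxT)
  have hne : S₁ ≠ T₁ := fun h => hST (Sylow.ext (by rw [← hSmap, ← hTmap, h]))
  obtain ⟨y, hy, rfl⟩ : x ∈ D.map f := hmap ▸ mem_zpowers x
  obtain ⟨s', hs', rfl⟩ : s ∈ (S₁ : Subgroup G).map f := hSmap ▸ hs
  exact (hC S₁ T₁ hne y (hS₁ hy) (hT₁ hy) s' hs').map f

/-- A noncentral element of a Sylow 2-subgroup lies in no other. -/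
theorem CI.eq_of_mem (hC : CI G) {S T : Sylow 2 G} {x s : G} (hx : x ∈ (S : Subgroup G))
    (hxT : x ∈ (T : Subgroup G)) (hs : s ∈ (S : Subgroup G)) (hn : ¬ Commute x s) : T = S := by
  by_contra h
  exact hn (hC S T (Ne.symm h) x hx hxT s hs)

/-- The centraliser of a noncentral element normalises its Sylow 2-subgroup. -/
theorem CI.smul_eq_of_commute (hC : CI G) {S : Sylow 2 G} {x s u : G} (hx : x ∈ (S : Subgroup G))
    (hs : s ∈ (S : Subgroup G)) (hn : ¬ Commute x s) (hu : Commute u x) : u • S = S := by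
  refine hC.eq_of_mem hx (mem_smul.2 ?_) hs hn
  rwa [mul_assoc, ← hu.eq, inv_mul_cancel_left]

/-- Conjugation inside a normalised Sylow subgroup. -/
theorem conj_mem_of_smul_eq {S : Sylow 2 G} {u x : G} (hu : u • S = S) (hx : x ∈ (S : Subgroup G)) :
    u * x * u⁻¹ ∈ (S : Subgroup G) := by
  have := conj_mem_smul u hx
  rwa [hu] at this

/-- An isolated involution fixed by the normaliser of a Sylow subgroup is central. -/
theorem CI.mem_center_of_fixed [Finite G] (hC : CI G) (h0 : Cfsg.oddCore G = ⊥) {S : Sylow 2 G} {c : G}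
    (hc : c ∈ (S : Subgroup G)) (h2 : orderOf c = 2)
    (hfix : ∀ g ∈ normalizer ((S : Subgroup G) : Set G), g * c * g⁻¹ = c) : c ∈ center G :=
  ZStar.Main.mem_center_of_isolated h0 (InvChar.CentralIntersections.isolated hC.hyp hc h2 hfix)

/-! ### Groups generated by their 2-elements -/

/-- The subgroup generated by the Sylow 2-subgroups. -/
def O2' (G : Type*) [Group G] : Subgroup G := ⨆ S : Sylow 2 G, (S : Subgroup G)

theorem le_O2' (S : Sylow 2 G) : (S : Subgroup G) ≤ O2' G :=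
  le_iSup (fun S : Sylow 2 G => (S : Subgroup G)) S

instance O2'_normal : (O2' G).Normal := by
  refine ⟨fun x hx g => ?_⟩
  induction hx using iSup_induction' with
  | hp S y hy => exact le_O2' (g • S) (conj_mem_smul g hy)
  | h1 => rw [mul_one, mul_inv_cancel]; exact one_mem _
  | hmul a b _ _ ha hb =>
    rw [show g * (a * b) * g⁻¹ = g * a * g⁻¹ * (g * b * g⁻¹) by group]
    exact mul_mem ha hb

theorem odd_index_O2' [Finite G] : Odd (O2' G).index := by
  haveI := Fact.mk Nat.prime_two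
  let S : Sylow 2 G := default
  rw [Nat.odd_iff, ← Nat.two_dvd_ne_zero]
  exact fun h => S.not_dvd_index (h.trans (index_dvd_of_le (le_O2' S)))

/-- The Sylow 2-subgroups generate the group. -/
def Gen (G : Type*) [Group G] : Prop := O2' G = ⊤

/-- The 2-elements generate the group. -/
theorem gen_of_le {K : Subgroup G}
    (hK : K ≤ ⨆ S : Sylow 2 ↥K, (S : Subgroup ↥K).map K.subtype) : Gen ↥K := by
  rw [Gen, eq_top_iff]
  intro x _
  have hx := hK x.2
  rw [← Subgroup.map_iSup] at hx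
  obtain ⟨y, hy, hyx⟩ := hx
  rwa [← Subtype.ext hyx]

theorem gen_O2' [Finite G] : Gen ↥(O2' G) := by
  refine gen_of_le (iSup_le fun S => ?_)
  refine le_trans ?_ (le_iSup _ (S.subtype (le_O2' S)))
  rw [Sylow.coe_subtype, map_subgroupOf_eq_of_le (le_O2' S)]

theorem Gen.map [Finite G] (hG : Gen G) {f : G →* H} (hf : Function.Surjective f) : Gen H := by
  haveI := Fact.mk Nat.prime_two
  rw [Gen, eq_top_iff, ← map_top_of_surjective f hf, ← hG, O2', Subgroup.map_iSup]
  refine iSup_le fun S => ?_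
  rw [← Sylow.coe_mapSurjective (P := S) hf]
  exact le_O2' _

/-! ### Klein four-groups acting on groups of odd order -/

/-- The inverse part of an element under an involutory automorphism of a group of odd order. -/
theorem exists_fixed_inverted [Finite G] {V : Subgroup G} (hV : Odd (Nat.card V)) {a v : G}
    (ha : ∀ w ∈ V, a * w * a⁻¹ ∈ V) (ha2 : ∀ w ∈ V, Commute (a * a) w) (hv : v ∈ V) :
    ∃ c ∈ V, ∃ e ∈ V, v = c * e ∧ a * c * a⁻¹ = c ∧ a * e * a⁻¹ = e⁻¹ := by
  set q := (a * v * a⁻¹)⁻¹ * v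
  have hq : q ∈ V := mul_mem (inv_mem (ha v hv)) hv
  have h2 : a * (a * v * a⁻¹) * a⁻¹ = v := by
    rw [show a * (a * v * a⁻¹) * a⁻¹ = a * a * v * (a * a)⁻¹ by group, (ha2 v hv).eq,
      mul_inv_cancel_right]
  have hinv : a * q * a⁻¹ = q⁻¹ := by
    show a * ((a * v * a⁻¹)⁻¹ * v) * a⁻¹ = ((a * v * a⁻¹)⁻¹ * v)⁻¹
    rw [← conj_mul, ← conj_inv, h2, mul_inv_rev, inv_inv]
  obtain ⟨n, hn, -⟩ := Involutions.Isolated.exists_sqrt (hV.of_dvd_nat (V.orderOf_dvd_natCard hq))
  set e := q ^ n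
  have he : e ∈ V := pow_mem hq n
  have hei : a * e * a⁻¹ = e⁻¹ := by rw [show e = q ^ n from rfl, ← conj_pow, hinv, inv_pow]
  refine ⟨v * e⁻¹, mul_mem hv (inv_mem he), e, he, (inv_mul_cancel_right v e).symm, ?_, hei⟩
  rw [← conj_mul, ← conj_inv, hei, inv_inv]
  refine eq_mul_inv_iff_mul_eq.2 ?_
  rw [mul_assoc, ← pow_two, hn]
  exact mul_inv_cancel_left _ _

/-- An element of odd order equal to its inverse is trivial. -/
theorem eq_one_of_eq_inv {x : G} (hx : Odd (orderOf x)) (h : x = x⁻¹) : x = 1 := by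
  obtain ⟨n, hn⟩ := hx
  have h2 : x * x = 1 := by nth_rw 2 [h]; exact mul_inv_cancel x
  have := pow_orderOf_eq_one x
  rwa [hn, pow_succ, pow_mul, pow_two, h2, one_pow, one_mul] at this

/-- A four-group acting on a group of odd order without extra fixed points acts trivially. -/
theorem klein_trivial [Finite G] {V : Subgroup G} (hV : Odd (Nat.card V)) {a b : G}
    (ha : ∀ w ∈ V, a * w * a⁻¹ ∈ V) (hb : ∀ w ∈ V, b * w * b⁻¹ ∈ V)
    (ha2 : ∀ w ∈ V, Commute (a * a) w) (hb2 : ∀ w ∈ V, Commute (b * b) w)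
    (hab : ∀ w ∈ V, a * (b * w * b⁻¹) * a⁻¹ = b * (a * w * a⁻¹) * b⁻¹)
    (hfb : ∀ w ∈ V, b * w * b⁻¹ = w → a * w * a⁻¹ = w)
    (hfab : ∀ w ∈ V, a * (b * w * b⁻¹) * a⁻¹ = w → a * w * a⁻¹ = w) :
    ∀ v ∈ V, Commute a v := by
  have hodd : ∀ w ∈ V, Odd (orderOf w) := fun w hw =>
    hV.of_dvd_nat (V.orderOf_dvd_natCard hw)
  -- inverted elements are trivial
  have key : ∀ w ∈ V, a * w * a⁻¹ = w⁻¹ → w = 1 := by
    intro w hw hwi
    obtain ⟨d, hd, e, he, rfl, hdb, heb⟩ := exists_fixed_inverted hV hb hb2 hw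
    have hda := hfb d hd hdb
    have hae : a * e * a⁻¹ = d⁻¹ * e⁻¹ * d⁻¹ := by
      have h : d * (a * e * a⁻¹) = e⁻¹ * d⁻¹ := by
        conv_lhs => arg 1; rw [← hda]
        rw [conj_mul, hwi, mul_inv_rev]
      rw [mul_assoc d⁻¹, ← h, inv_mul_cancel_left]
    have hbe : b * (a * e * a⁻¹) * b⁻¹ = (a * e * a⁻¹)⁻¹ := by
      rw [← hab e he, heb, ← conj_inv]
    rw [hae, ← conj_mul, ← conj_mul, ← conj_inv, ← conj_inv, hdb, heb, inv_inv, mul_inv_rev,
      mul_inv_rev, inv_inv, inv_inv] at hbe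
    -- `d² e d² = e`
    have hd2 : d * d * e * (d * d) = e := by
      calc d * d * e * (d * d) = d * (d * (e * d)) * d := by group
        _ = d * (d⁻¹ * e * d⁻¹) * d := by rw [← hbe]
        _ = e := by group
    have hinv : e⁻¹ * (d * d) * e = (d * d)⁻¹ := eq_inv_of_mul_eq_one_left (by
      rw [show e⁻¹ * (d * d) * e * (d * d) = e⁻¹ * (d * d * e * (d * d)) by group, hd2, inv_mul_cancel])
    obtain ⟨m, hm⟩ := hodd e he
    have hcom : Commute (d * d) e := by
      have h2 : Commute (d * d) (e * e) := by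
        have h := hinv
        have h' : e⁻¹ * (e⁻¹ * (d * d) * e) * e = d * d := by
          rw [h, show e⁻¹ * (d * d)⁻¹ * e = (e⁻¹ * (d * d) * e)⁻¹ by group, h, inv_inv]
        show d * d * (e * e) = e * e * (d * d)
        conv_rhs => rw [← h']
        group
      have he1 : e = ((e * e) ^ m)⁻¹ := by
        apply eq_inv_of_mul_eq_one_left
        rw [← pow_two, ← pow_mul, ← pow_succ', ← hm, pow_orderOf_eq_one]
      rw [he1]
      exact (h2.pow_right m).inv_right
    rw [mul_assoc, hcom.eq, inv_mul_cancel_left] at hinv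
    have h1 : d * d = 1 := eq_one_of_eq_inv (hodd _ (mul_mem hd hd)) hinv
    obtain rfl : d = 1 := eq_one_of_eq_inv (hodd d hd) (eq_inv_of_mul_eq_one_left h1)
    rw [one_mul] at hwi ⊢
    have h := hfab e he (by rw [heb, ← conj_inv, hwi, inv_inv])
    exact eq_one_of_eq_inv (hodd e he) (h.symm.trans hwi)
  intro v hv
  obtain ⟨c, hc, e, he, rfl, hca, hea⟩ := exists_fixed_inverted hV ha ha2 hv
  rw [key e he hea, mul_one]
  exact mul_inv_eq_iff_eq_mul.1 hca

end Cfsg.Agent.CISylow
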