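import Cfsg.Agent.Lib.CISylow.Top

/-!
# The Sylow subgroups through an element lying in two of them

By induction their group is a central cover of a simple group of one of the three families, and any
two of them meet in the same subgroup.
-/

set_option autoImplicit false
set_option linter.style.haveILetI false
set_option linter.unusedSectionVars false

namespace Cfsg.Agent.CISylow

open Subgroup
open scoped Pointwise
open Cfsg.Agent.CyclicSylowInter (KindTI KindFacts)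
open Cfsg.Agent.ZStar.CyclicIntersections (conj_mem_smul mem_smul mem_cent)

universe u

/-- The induction hypothesis. -/
def TrivBelow (N : ℕ) : Prop :=
  ∀ (H : Type u) [Group H] [Finite H], Nat.card H < N → RG H → Triv H

variable {G : Type u} [Group G]

/-- An element outside the 2-core in two Sylow subgroups. -/
def Multi (x : G) : Prop :=
  x ∉ Cfsg.pCore 2 G ∧ ∃ S T : Sylow 2 G, S ≠ T ∧ x ∈ (S : Subgroup G) ∧ x ∈ (T : Subgroup G)

/-- The intersection of the Sylow subgroups through `x`. -/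
def Ix (x : G) : Subgroup G :=
  ⨅ (S : Sylow 2 G) (_ : x ∈ (S : Subgroup G)), (S : Subgroup G)

/-- The group generated by the Sylow subgroups through `x`. -/
def gx (x : G) : Subgroup G :=
  ⨆ (S : Sylow 2 G) (_ : x ∈ (S : Subgroup G)), (S : Subgroup G)

theorem Ix_le {x : G} {S : Sylow 2 G} (h : x ∈ (S : Subgroup G)) : Ix x ≤ (S : Subgroup G) :=
  iInf₂_le S h

theorem mem_Ix {x y : G} : y ∈ Ix x ↔ ∀ S : Sylow 2 G, x ∈ (S : Subgroup G) → y ∈ (S : Subgroup G) := by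
  simp [Ix, mem_iInf]

theorem self_mem_Ix (x : G) : x ∈ Ix x := mem_Ix.2 fun _ h => h

theorem le_gx {x : G} {S : Sylow 2 G} (h : x ∈ (S : Subgroup G)) : (S : Subgroup G) ≤ gx x :=
  le_iSup₂ (f := fun (S : Sylow 2 G) (_ : x ∈ (S : Subgroup G)) => (S : Subgroup G)) S h

theorem Multi.mem_gx {x : G} (hx : Multi x) : x ∈ gx x := by
  obtain ⟨-, S, -, -, hxS, -⟩ := hx
  exact le_gx hxS hxS

theorem Multi.commute {x s : G} (hC : CI G) (hx : Multi x) {U : Sylow 2 G} (hxU : x ∈ (U : Subgroup G))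
    (hs : s ∈ (U : Subgroup G)) : Commute x s := by
  obtain ⟨-, S, T, hne, hxS, hxT⟩ := hx
  by_cases h : U = S
  · exact hC U T (h ▸ hne) x hxU hxT s hs
  · exact hC U S h x hxU hxS s hs

theorem Multi.exists_ne {x : G} (hx : Multi x) (U : Sylow 2 G) :
    ∃ V : Sylow 2 G, V ≠ U ∧ x ∈ (V : Subgroup G) := by
  obtain ⟨-, S, T, hne, hxS, hxT⟩ := hx
  by_cases h : S = U
  · exact ⟨T, fun e => hne (h.trans e.symm), hxT⟩
  · exact ⟨S, h, hxS⟩

theorem gx_commute {x g : G} (hC : CI G) (hx : Multi x) (hg : g ∈ gx x) : Commute g x := by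
  have h : gx x ≤ centralizer {x} := iSup₂_le fun U hU s hs => mem_cent.2 (hx.commute hC hU hs).symm
  exact mem_cent.1 (h hg)

variable [Finite G]

theorem gx_ne_top (R : RG G) {x : G} (hx : Multi x) : gx x ≠ ⊤ := fun h =>
  hx.1 (R.center_eq ▸ mem_center_iff.2 fun g => (gx_commute R.ci hx (h ▸ mem_top g)).eq)

theorem gen_gx (x : G) : Gen ↥(gx x) := by
  refine gen_of_le (iSup₂_le fun U hU => ?_)
  refine le_trans ?_ (le_iSup _ (U.subtype (le_gx hU)))
  rw [Sylow.coe_subtype, map_subgroupOf_eq_of_le (le_gx hU)]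

theorem smul_eq_self_of_mem {x : G} (hC : CI G) (hx : Multi x) {h : G} (hh : h ∈ gx x) {U : Sylow 2 G}
    (hU : x ∈ (U : Subgroup G)) : x ∈ ((h • U : Sylow 2 G) : Subgroup G) := by
  refine mem_smul.2 ?_
  rwa [mul_assoc, ← (gx_commute hC hx hh).eq, inv_mul_cancel_left]

/-- A Sylow subgroup through `x` centralises the odd core of their group. -/
theorem commute_oddCore (R : RG G) {x : G} (hx : Multi x) {U : Sylow 2 G} (hU : x ∈ (U : Subgroup G))
    {s : G} (hs : s ∈ (U : Subgroup G)) {o : ↥(gx x)} (ho : o ∈ Cfsg.oddCore ↥(gx x)) :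
    Commute s (o : G) := by
  set V := (Cfsg.oddCore ↥(gx x)).map (gx x).subtype
  by_contra hne
  haveI := InvChar.Core.pPrimeCore_characteristic (G := ↥(gx x)) 2
  have hSV : ∀ t ∈ (U : Subgroup G), ∀ v ∈ V, t * v * t⁻¹ ∈ V := by
    rintro t ht - ⟨v, hv, rfl⟩
    exact ⟨⟨t, le_gx hU ht⟩ * v * ⟨t, le_gx hU ht⟩⁻¹,
      Normal.conj_mem (inferInstance : (Cfsg.pPrimeCore 2 ↥(gx x)).Normal) v hv _, rfl⟩
  have hV : Odd (Nat.card V) := by
    rw [card_map_of_injective (gx x).subtype_injective]; exact InvChar.Core.odd_card_oddCore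
  obtain ⟨⟨c, hc, hc2, hfix, v, -, hcv⟩, -⟩ :=
    R.ci.fixed_involution (R.nonab U) hV hSV ⟨s, hs, o, ⟨o, ho, rfl⟩, hne⟩
  exact hcv (mem_center_iff.1 (R.ci.mem_center_of_fixed R.odd hc hc2 hfix) v).symm

theorem oddCore_gx_central (R : RG G) {x : G} (hx : Multi x) {o : ↥(gx x)}
    (ho : o ∈ Cfsg.oddCore ↥(gx x)) {g : G} (hg : g ∈ gx x) : Commute g (o : G) := by
  have h : gx x ≤ centralizer {(o : G)} :=
    iSup₂_le fun U hU s hs => mem_cent.2 (commute_oddCore R hx hU hs ho)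
  exact mem_cent.1 (h hg)

/-- The group of the Sylow subgroups through `x` modulo its odd core. -/
abbrev gRed (x : G) : Type u := ↥(gx x) ⧸ Cfsg.oddCore ↥(gx x)

/-- Its simple quotient. -/
abbrev gTop (x : G) : Type u := gRed x ⧸ Cfsg.pCore 2 (gRed x)

/-- The projection to the simple quotient. -/
def gHom (x : G) : ↥(gx x) →* gTop x :=
  (QuotientGroup.mk' (Cfsg.pCore 2 (gRed x))).comp (QuotientGroup.mk' (Cfsg.oddCore ↥(gx x)))

theorem gHom_surjective (x : G) : Function.Surjective (gHom x) :=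
  (QuotientGroup.mk'_surjective _).comp (QuotientGroup.mk'_surjective _)

theorem gHom_eq_one {x : G} {u : ↥(gx x)} :
    gHom x u = 1 ↔ QuotientGroup.mk' (Cfsg.oddCore ↥(gx x)) u ∈ Cfsg.pCore 2 (gRed x) :=
  QuotientGroup.eq_one_iff _

/-- Elements of Sylow subgroups through `x` are determined modulo the odd core. -/
theorem eq_of_mk_eq (R : RG G) {x : G} (hx : Multi x) {U V : Sylow 2 G} {u v : ↥(gx x)}
    (hu : (u : G) ∈ (U : Subgroup G)) (hv : (v : G) ∈ (V : Subgroup G))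
    (h : QuotientGroup.mk' (Cfsg.oddCore ↥(gx x)) u = QuotientGroup.mk' (Cfsg.oddCore ↥(gx x)) v) :
    u = v := by
  have ho : u⁻¹ * v ∈ Cfsg.oddCore ↥(gx x) := QuotientGroup.eq.1 h
  have hc : Commute u (u⁻¹ * v) := Subtype.ext (oddCore_gx_central R hx ho u.2)
  have hcuv : Commute u⁻¹ v := by
    have := hc.inv_left.mul_right (Commute.refl u).inv_left
    have e : Commute u⁻¹ (u * (u⁻¹ * v)) := (Commute.refl u).inv_left.mul_right hc.inv_left
    rwa [mul_inv_cancel_left] at e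
  obtain ⟨k, hk⟩ := U.isPGroup' ⟨u, hu⟩
  obtain ⟨l, hl⟩ := V.isPGroup' ⟨v, hv⟩
  have hk' : u ^ 2 ^ (k + l) = 1 := by
    rw [pow_add, pow_mul, show u ^ 2 ^ k = 1 from Subtype.ext (by simpa using congrArg Subtype.val hk),
      one_pow]
  have hl' : v ^ 2 ^ (k + l) = 1 := by
    rw [pow_add, mul_comm (2 ^ k), pow_mul,
      show v ^ 2 ^ l = 1 from Subtype.ext (by simpa using congrArg Subtype.val hl), one_pow]
  have h2 : (u⁻¹ * v) ^ 2 ^ (k + l) = 1 := by rw [hcuv.mul_pow, inv_pow, hk', hl', inv_one, one_mul]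
  have hodd : Odd (orderOf (u⁻¹ * v)) :=
    InvChar.Core.odd_card_oddCore.of_dvd_nat ((Cfsg.oddCore ↥(gx x)).orderOf_dvd_natCard ho)
  have h1 : u⁻¹ * v = 1 := SETwoClosed.TwoEl.eq_one_of_odd ⟨_, h2⟩ hodd
  exact inv_mul_eq_one.1 h1

/-- The Sylow subgroup of the reduced group given by one through `x`. -/
noncomputable def gSyl {x : G} {U : Sylow 2 G} (hU : x ∈ (U : Subgroup G)) : Sylow 2 (gRed x) :=
  haveI := Fact.mk Nat.prime_two
  (U.subtype (le_gx hU)).mapSurjective (QuotientGroup.mk'_surjective (Cfsg.oddCore ↥(gx x)))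

theorem mem_gSyl {x : G} {U : Sylow 2 G} (hU : x ∈ (U : Subgroup G)) {u : ↥(gx x)}
    (hu : (u : G) ∈ (U : Subgroup G)) :
    QuotientGroup.mk' (Cfsg.oddCore ↥(gx x)) u ∈ (gSyl hU : Subgroup (gRed x)) := by
  haveI := Fact.mk Nat.prime_two
  exact ⟨u, hu, rfl⟩

theorem mem_of_gSyl (R : RG G) {x : G} (hx : Multi x) {U V : Sylow 2 G} (hU : x ∈ (U : Subgroup G))
    {v : ↥(gx x)} (hv : (v : G) ∈ (V : Subgroup G))
    (h : QuotientGroup.mk' (Cfsg.oddCore ↥(gx x)) v ∈ (gSyl hU : Subgroup (gRed x))) :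
    (v : G) ∈ (U : Subgroup G) := by
  haveI := Fact.mk Nat.prime_two
  obtain ⟨u, hu, e⟩ := h
  obtain rfl := eq_of_mk_eq R hx (V := V) (U := U) hu hv e
  exact hu

theorem gSyl_injective (R : RG G) {x : G} (hx : Multi x) {U V : Sylow 2 G} (hU : x ∈ (U : Subgroup G))
    (hV : x ∈ (V : Subgroup G)) (h : gSyl hU = gSyl hV) : U = V := by
  refine U.ext (V.3 U.isPGroup' fun v hv => ?_)
  exact mem_of_gSyl R hx hU (v := ⟨v, le_gx hV hv⟩) hv (h ▸ mem_gSyl hV hv)

theorem rg_gRed (R : RG G) {x : G} (hx : Multi x) : RG (gRed x) := by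
  have hx' := hx
  obtain ⟨-, S, T, hST, hxS, hxT⟩ := hx
  refine ⟨(R.ci.subgroup _).map (QuotientGroup.mk'_surjective _),
    InvChar.Core.oddCore_quotient_oddCore_eq_bot, (gen_gx x).map (QuotientGroup.mk'_surjective _),
    forall_nonab (S := gSyl hxS) ?_, forall_other (fun e => hST (gSyl_injective R hx' hxS hxT e.symm))⟩
  obtain ⟨a, ha, b, hb, hab⟩ := R.nonab S
  refine ⟨_, mem_gSyl hxS (u := ⟨a, le_gx hxS ha⟩) ha, _, mem_gSyl hxS (u := ⟨b, le_gx hxS hb⟩) hb,
    fun hc => hab ?_⟩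
  exact congrArg Subtype.val (eq_of_mk_eq R hx' (U := S) (V := S)
    (u := ⟨a, le_gx hxS ha⟩ * ⟨b, le_gx hxS hb⟩) (v := ⟨b, le_gx hxS hb⟩ * ⟨a, le_gx hxS ha⟩)
    (mul_mem ha hb) (mul_mem hb ha) (by rw [map_mul, map_mul]; exact hc.eq))

theorem card_gRed_lt (R : RG G) {x : G} (hx : Multi x) : Nat.card (gRed x) < Nat.card G :=
  lt_of_le_of_lt (Nat.card_le_card_of_surjective _ (QuotientGroup.mk'_surjective _))
    (lt_of_le_of_ne (card_le_card_group _) fun e => gx_ne_top R hx (eq_top_of_card_eq _ e))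

section

variable (R : RG G) (hb : TrivBelow.{u} (Nat.card G)) {x : G} (hx : Multi x)
include R hb hx

theorem triv_gRed : Triv (gRed x) := hb _ (card_gRed_lt R hx) (rg_gRed R hx)

theorem kind_gTop (hF : KindFacts.{u}) :
    KindTI (gTop x) ∧ IsSimpleGroup (gTop x) ∧ ¬ IsMulCommutative (gTop x) :=
  (rg_gRed R hx).kindTI_quot hF (triv_gRed R hb hx)

/-- The kernel meets a Sylow subgroup through `x` in the intersection. -/
theorem mem_Ix_iff {U : Sylow 2 G} (hU : x ∈ (U : Subgroup G)) {u : ↥(gx x)}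
    (hu : (u : G) ∈ (U : Subgroup G)) : (u : G) ∈ Ix x ↔ gHom x u = 1 := by
  rw [gHom_eq_one]
  refine ⟨fun h => ?_, fun h => mem_Ix.2 fun V hV => ?_⟩
  · obtain ⟨V, hne, hV⟩ := hx.exists_ne U
    exact triv_gRed R hb hx _ _ (fun e => hne (gSyl_injective R hx hU hV e).symm) _ (mem_gSyl hU hu)
      (mem_gSyl hV (mem_Ix.1 h V hV))
  · exact mem_of_gSyl R hx hV hu (PLocal.Cores.pCore_le_sylow _ h)

/-- Two Sylow subgroups through `x` meet in the intersection of all of them. -/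
theorem inter_eq {U V : Sylow 2 G} (hne : U ≠ V) (hU : x ∈ (U : Subgroup G))
    (hV : x ∈ (V : Subgroup G)) : (U : Subgroup G) ⊓ (V : Subgroup G) = Ix x := by
  refine le_antisymm (fun u hu => ?_) (le_inf (Ix_le hU) (Ix_le hV))
  refine (mem_Ix_iff R hb hx hU (u := ⟨u, le_gx hU hu.1⟩) hu.1).2 (gHom_eq_one.2 ?_)
  exact triv_gRed R hb hx _ _ (fun e => hne (gSyl_injective R hx hU hV e)) _ (mem_gSyl hU hu.1)
    (mem_gSyl hV hu.2)

/-- The kernel centralises the Sylow subgroups through `x`. -/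
theorem commute_ker {U : Sylow 2 G} (hU : x ∈ (U : Subgroup G)) {k : ↥(gx x)} (hk : gHom x k = 1)
    {s : G} (hs : s ∈ (U : Subgroup G)) : Commute (k : G) s := by
  have hc := mem_center_iff.1 ((rg_gRed R hx).pCore_le_center (gHom_eq_one.1 hk))
    (QuotientGroup.mk' (Cfsg.oddCore ↥(gx x)) ⟨s, le_gx hU hs⟩)
  have h := eq_of_mk_eq R hx (U := (k : G) • U) (V := U)
    (u := k * ⟨s, le_gx hU hs⟩ * k⁻¹) (v := ⟨s, le_gx hU hs⟩) (conj_mem_smul (k : G) hs) hs
    (by rw [map_mul, map_mul, map_inv, ← hc, mul_inv_cancel_right])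
  exact mul_inv_eq_iff_eq_mul.1 (congrArg Subtype.val h)

/-- The intersection is the same for all its elements outside the 2-core. -/
theorem Ix_eq_of_mem {y : G} (hy : y ∈ Ix x) (hyD : y ∉ Cfsg.pCore 2 G) : Multi y ∧ Ix y = Ix x := by
  obtain ⟨hxD, S, T, hST, hxS, hxT⟩ := id hx
  have hyS := Ix_le hxS hy
  have hyT := Ix_le hxT hy
  have hmy : Multi y := ⟨hyD, S, T, hST, hyS, hyT⟩
  exact ⟨hmy, (inter_eq R hb hmy hST hyS hyT).symm.trans (inter_eq R hb hx hST hxS hxT)⟩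

end

end Cfsg.Agent.CISylow
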