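import Cfsg.Agent.Lib.CyclicSylowInter.Defs
import Cfsg.Agent.Lib.Involutions.Basic

/-!
# Counting in a Sylow 2-subgroup with the facts of the three families
-/

set_option autoImplicit false
set_option linter.style.haveILetI false
set_option linter.unusedSectionVars false

namespace Cfsg.Agent.CISylow

open Subgroup
open Cfsg.Agent.CyclicSylowInter (TIData)

universe u

variable {L : Type u} [Group L] [Finite L] {S : Sylow 2 L} {n i : ℕ}

/-- The elements of the Sylow subgroup squaring to one. -/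
def sqOne (S : Sylow 2 L) : Set L := {x | x ∈ (S : Subgroup L) ∧ x * x = 1}

theorem ncard_sqOne (d : TIData S n i) : (sqOne S).ncard = 2 ^ n := by
  have h : sqOne S = insert 1 {x : L | x ∈ (S : Subgroup L) ∧ orderOf x = 2} := by
    ext x
    simp only [sqOne, Set.mem_ofPred_eq, Set.mem_insert_iff]
    refine ⟨fun hx => ?_, ?_⟩
    · by_cases h1 : x = 1
      · exact Or.inl h1
      · exact Or.inr ⟨hx.1, Involutions.Basic.orderOf_two_iff.2 ⟨hx.2, h1⟩⟩
    · rintro (rfl | hx)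
      · exact ⟨one_mem _, one_mul 1⟩
      · exact ⟨hx.1, (Involutions.Basic.orderOf_two_iff.1 hx.2).1⟩
  rw [h, Set.ncard_insert_of_notMem, d.ncard_inv, Nat.sub_add_cancel Nat.one_le_two_pow]
  simp

theorem commute_of_sq (d : TIData S n i) {x s : L} (hx : x ∈ (S : Subgroup L)) (h2 : x * x = 1)
    (hs : s ∈ (S : Subgroup L)) : Commute x s := by
  by_cases h1 : x = 1
  · rw [h1]; exact Commute.one_left s
  · exact d.inv_central x hx (Involutions.Basic.orderOf_two_iff.2 ⟨h2, h1⟩) s hs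

theorem sq_mul (d : TIData S n i) {x y : L} (hx : x ∈ (S : Subgroup L)) (hxx : x * x = 1)
    (hy : y ∈ (S : Subgroup L)) : (y * x) * (y * x) = y * y := by
  calc y * x * (y * x) = y * (x * y) * x := by group
    _ = y * y * (x * x) := by rw [(commute_of_sq d hx hxx hy).eq]; group
    _ = y * y := by rw [hxx, mul_one]

theorem elementary_of_one (d : TIData S n i) (hi : i = 1) {s : L} (hs : s ∈ (S : Subgroup L)) :
    s * s = 1 := by
  have h : sqOne S = ((S : Subgroup L) : Set L) := Set.eq_of_subset_of_ncard_le (fun x hx => hx.1) (by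
    rw [ncard_sqOne d, ← Nat.card_coe_set_eq]
    exact (d.card_sylow.trans (by rw [hi, pow_one])).le) (Set.toFinite _)
  exact (h.symm ▸ (hs : s ∈ ((S : Subgroup L) : Set L)) : s ∈ sqOne S).2

theorem exists_nonsq (d : TIData S n i) (hi : 2 ≤ i) : ∃ s ∈ (S : Subgroup L), s * s ≠ 1 := by
  by_contra! h
  have h1 : sqOne S = ((S : Subgroup L) : Set L) := Set.ext fun x => ⟨fun hx => hx.1, fun hx => ⟨hx, h x hx⟩⟩
  have h2 := ncard_sqOne d
  rw [h1, ← Nat.card_coe_set_eq] at h2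
  have h3 : 2 ^ n * 2 ^ n ≤ 2 ^ n := calc
    2 ^ n * 2 ^ n = (2 ^ n) ^ 2 := (pow_two _).symm
    _ ≤ (2 ^ n) ^ i := Nat.pow_le_pow_right (Nat.two_pow_pos n) hi
    _ = _ := d.card_sylow.symm.trans h2
  have : 4 ≤ 2 ^ n := by simpa using Nat.pow_le_pow_right (n := 2) two_pos d.two_le
  nlinarith

/-- A finite set cannot lie in a short list. -/
theorem exists_notMem_four {A : Set L} (h : 5 ≤ A.ncard) (a b c e : L) :
    ∃ x ∈ A, x ≠ a ∧ x ≠ b ∧ x ≠ c ∧ x ≠ e := by
  by_contra! hall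
  have h1 : A ⊆ {a, b, c, e} := fun x hx => by
    simp only [Set.mem_insert_iff, Set.mem_singleton_iff]
    by_contra! hh
    exact hh.2.2.2 (hall x hx hh.1 hh.2.1 hh.2.2.1)
  have h2 := Set.ncard_le_ncard h1 (Set.toFinite _)
  have h3 := Set.ncard_insert_le a {b, c, e}
  have h4 := Set.ncard_insert_le b {c, e}
  have h5 := Set.ncard_insert_le c {e}
  rw [Set.ncard_singleton] at h5
  omega

theorem exists_inv_indep (d : TIData S n i) (hn : 3 ≤ n) : ∃ u ∈ sqOne S, ∃ v ∈ sqOne S, ∃ w ∈ sqOne S,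
    u ≠ 1 ∧ v ≠ 1 ∧ w ≠ 1 ∧ u * v ≠ 1 ∧ u * w ≠ 1 ∧ v * w ≠ 1 ∧ u * v * w ≠ 1 := by
  have h8 : 5 ≤ (sqOne S).ncard := by
    rw [ncard_sqOne d]
    exact le_trans (by norm_num) (Nat.pow_le_pow_right two_pos hn)
  obtain ⟨u, hu, hu1, -, -, -⟩ := exists_notMem_four h8 1 1 1 1
  obtain ⟨v, hv, hv1, hvu, -, -⟩ := exists_notMem_four h8 1 u 1 1
  obtain ⟨w, hw, hw1, hwu, hwv, hwuv⟩ := exists_notMem_four h8 1 u v (u * v)
  refine ⟨u, hu, v, hv, w, hw, hu1, hv1, hw1, ?_, ?_, ?_, ?_⟩ <;> intro e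
  · exact hvu (mul_left_cancel (e.trans hu.2.symm))
  · exact hwu (mul_left_cancel (e.trans hu.2.symm))
  · exact hwv (mul_left_cancel (e.trans hv.2.symm))
  · refine hwuv (mul_left_cancel (e.trans ?_))
    rw [← pow_two, (commute_of_sq d hu.1 hu.2 hv.1).mul_pow, pow_two, pow_two, hu.2, hv.2, one_mul]

theorem exists_two_cases (d : TIData S n i) (hn : n = 2) : ∃ u ∈ sqOne S, ∃ v ∈ sqOne S,
    u ≠ 1 ∧ v ≠ 1 ∧ u * v ≠ 1 ∧ ∀ s ∈ sqOne S, s = 1 ∨ s = u ∨ s = v ∨ s = u * v := by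
  classical
  have h4 : (sqOne S).ncard = 4 := by rw [ncard_sqOne d, hn]; norm_num
  obtain ⟨u, hu, hu1⟩ := Set.exists_ne_of_one_lt_ncard (by omega : 1 < (sqOne S).ncard) 1
  obtain ⟨v, hv, hv1⟩ : ∃ v ∈ sqOne S, v ∉ ({1, u} : Set L) := by
    by_contra! h
    have h2 := Set.ncard_le_ncard (fun x hx => h x hx : sqOne S ⊆ {1, u}) (Set.toFinite _)
    have h3 := Set.ncard_insert_le (1 : L) {u}
    rw [Set.ncard_singleton] at h3
    omega
  simp only [Set.mem_insert_iff, Set.mem_singleton_iff, not_or] at hv1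
  refine ⟨u, hu, v, hv, hu1, hv1.1, fun e => hv1.2 (mul_left_cancel (e.trans hu.2.symm)), fun s hs => ?_⟩
  by_contra! h
  obtain ⟨h1, h2, h3, h4'⟩ := h
  have hsub : ({1, u, v, u * v, s} : Set L) ⊆ sqOne S := by
    rintro x (rfl | rfl | rfl | rfl | rfl)
    · exact ⟨one_mem _, one_mul 1⟩
    · exact hu
    · exact hv
    · exact ⟨mul_mem hu.1 hv.1, by rw [sq_mul d hv.1 hv.2 hu.1, hu.2]⟩
    · exact hs
  have huv1 : u * v ≠ 1 := fun e => hv1.2 (mul_left_cancel (e.trans hu.2.symm))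
  have huvu : u * v ≠ u := fun e => hv1.1 (mul_eq_left.1 e)
  have huvv : u * v ≠ v := fun e => hu1 (mul_eq_right.1 e)
  have := Set.ncard_le_ncard hsub (Set.toFinite _)
  rw [h4, Set.ncard_insert_of_notMem, Set.ncard_insert_of_notMem, Set.ncard_insert_of_notMem,
    Set.ncard_pair (Ne.symm h4')] at this
  · omega
  · simp only [Set.mem_insert_iff, Set.mem_singleton_iff, not_or]
    exact ⟨Ne.symm huvv, Ne.symm h3⟩
  · simp only [Set.mem_insert_iff, Set.mem_singleton_iff, not_or]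
    exact ⟨Ne.symm hv1.2, Ne.symm huvu, Ne.symm h2⟩
  · simp only [Set.mem_insert_iff, Set.mem_singleton_iff, not_or]
    exact ⟨Ne.symm hu1, Ne.symm hv1.1, Ne.symm huv1, Ne.symm h1⟩

/-- Every involution is a square when `2 ≤ i`. -/
theorem exists_root (d : TIData S n i) (hi : 2 ≤ i) {w : L} (hw : w ∈ sqOne S) :
    ∃ a ∈ (S : Subgroup L), a * a = w := by
  by_cases h1 : w = 1
  · exact ⟨1, one_mem _, by rw [h1, one_mul]⟩
  obtain ⟨a, ha, haa⟩ := exists_nonsq d hi
  obtain ⟨τ, hτ, -, htr, -⟩ := d.torus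
  obtain ⟨j, hj⟩ := htr (a * a) w (mul_mem ha ha) hw.1
    (Involutions.Basic.orderOf_two_iff.2 ⟨d.sq_sq a ha, haa⟩)
    (Involutions.Basic.orderOf_two_iff.2 ⟨hw.2, h1⟩)
  refine ⟨τ ^ j * a * (τ ^ j)⁻¹, (mem_normalizer_iff.1 (pow_mem hτ j) a).1 ha, ?_⟩
  rw [← hj]; group

/-- For `i = 2` the squaring map is injective modulo the involutions. -/
theorem sq_inj (d : TIData S n i) (hi : i = 2) {a b : L} (ha : a ∈ (S : Subgroup L))
    (hb : b ∈ (S : Subgroup L)) (h : a * a = b * b) : (a⁻¹ * b) * (a⁻¹ * b) = 1 := by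
  classical
  by_contra hne
  have hroot := fun w : sqOne S => exists_root d hi.ge w.2
  choose r hr hrr using hroot
  let w₀ : sqOne S := ⟨a * a, mul_mem ha ha, d.sq_sq a ha⟩
  let r' : sqOne S → L := fun w => if w = w₀ then a else r w
  have hr' : ∀ w, r' w ∈ (S : Subgroup L) ∧ r' w * r' w = w := fun w => by
    show (if w = w₀ then a else r w) ∈ (S : Subgroup L) ∧ _
    simp only [r']
    split_ifs with he
    · exact ⟨ha, by rw [he]⟩
    · exact ⟨hr w, hrr w⟩
  let f : (sqOne S × sqOne S) ⊕ sqOne S → ↥(S : Subgroup L) := fun z => match z with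
    | .inl (w, x) => ⟨r' w * x, mul_mem (hr' w).1 x.2.1⟩
    | .inr x => ⟨b * x, mul_mem hb x.2.1⟩
  have hsq : ∀ w (x : sqOne S), (r' w * x) * (r' w * x) = (w : L) := fun w x =>
    (sq_mul d x.2.1 x.2.2 (hr' w).1).trans (hr' w).2
  have hab : ∀ x y : sqOne S, r' w₀ * (x : L) ≠ b * y := by
    intro x y e
    simp only [r', if_true] at e
    apply hne
    have e' : a⁻¹ * b = (x : L) * (y : L)⁻¹ := by
      rw [eq_mul_inv_iff_mul_eq, mul_assoc, ← e, inv_mul_cancel_left]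
    rw [e', sq_mul d (inv_mem y.2.1) (by rw [← mul_inv_rev, y.2.2, inv_one]) x.2.1, x.2.2]
  have hsame : ∀ w (x y : sqOne S), r' w * (x : L) = b * y → w = w₀ := fun w x y e => by
    refine Subtype.ext ?_
    rw [← hsq w x, e, sq_mul d y.2.1 y.2.2 hb, ← h]
  have hf : Function.Injective f := by
    rintro (⟨w, x⟩ | x) (⟨w', x'⟩ | y) e <;> have e' := congrArg Subtype.val e <;> simp only [f] at e'
    · obtain rfl : w = w' := Subtype.ext (by rw [← hsq w x, e', hsq])
      rw [Subtype.ext (mul_left_cancel e') (a1 := x)]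
    · obtain rfl := hsame w x y e'
      exact absurd e' (hab x y)
    · obtain rfl := hsame w' x' x e'.symm
      exact absurd e'.symm (hab x' x)
    · rw [Subtype.ext (mul_left_cancel e') (a1 := x)]
  have hle := Nat.card_le_card_of_injective f hf
  rw [Nat.card_sum, Nat.card_prod, Nat.card_coe_set_eq, ncard_sqOne d, d.card_sylow, hi, pow_two] at hle
  have := Nat.two_pow_pos n
  omega

/-- For `i = 2` three elements are independent modulo the involutions. -/
theorem exists_sq_indep (d : TIData S n i) (hi : i = 2) : ∃ a ∈ (S : Subgroup L), ∃ b ∈ (S : Subgroup L),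
    ∃ c ∈ (S : Subgroup L), ∀ x ∈ ([a, b, c, a * b, a * c, b * c, a * b * c] : List L), x * x ≠ 1 := by
  have hn : 3 ≤ n := by
    obtain ⟨k, hk⟩ := d.suzuki_odd hi
    have := d.two_le
    omega
  have h8 : 5 ≤ (sqOne S).ncard := by
    rw [ncard_sqOne d]; exact le_trans (by norm_num) (Nat.pow_le_pow_right two_pos hn)
  obtain ⟨u, hu, hu1, -, -, -⟩ := exists_notMem_four h8 1 1 1 1
  obtain ⟨a, ha, rfl⟩ := exists_root d hi.ge hu
  obtain ⟨v, hv, hv1, hvu, -, -⟩ := exists_notMem_four h8 1 (a * a) 1 1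
  obtain ⟨b, hb, rfl⟩ := exists_root d hi.ge hv
  obtain ⟨w, hw, hw1, hwu, hwv, hwab⟩ := exists_notMem_four h8 1 (a * a) (b * b) (a * b * (a * b))
  obtain ⟨c, hc, rfl⟩ := exists_root d hi.ge hw
  -- if the product of two elements squares to one their squares agree
  have key : ∀ p q : L, p ∈ (S : Subgroup L) → q ∈ (S : Subgroup L) → p * q * (p * q) = 1 → q * q = p * p := by
    intro p q hp hq hpq
    have h1 := sq_mul d (mul_mem hp hq) hpq (inv_mem hp)
    rw [inv_mul_cancel_left] at h1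
    have h2 : p⁻¹ * p⁻¹ = p * p := by
      rw [← mul_inv_rev, inv_eq_iff_mul_eq_one]; exact d.sq_sq p hp
    rw [h1, h2]
  refine ⟨a, ha, b, hb, c, hc, ?_⟩
  simp only [List.mem_cons, List.not_mem_nil, or_false]
  rintro x (rfl | rfl | rfl | rfl | rfl | rfl | rfl) e
  · exact hu1 e
  · exact hv1 e
  · exact hw1 e
  · exact hvu (key a b ha hb e)
  · exact hwu (key a c ha hc e)
  · exact hwv (key b c hb hc e)
  · exact hwab (key (a * b) c (mul_mem ha hb) hc e)

end Cfsg.Agent.CISylow
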