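import Cfsg.Agent.Lib.CISylow.Split

/-!
# Distinct Sylow 2-subgroups of a reduced group meet in the 2-core
-/

set_option autoImplicit false
set_option linter.style.haveILetI false

namespace Cfsg.Agent.CISylow

open Cfsg.Agent.CyclicSylowInter (KindFacts TITheorem)

universe u

theorem trivBelow (hF : KindFacts.{u}) (hT : TITheorem.{u}) : ∀ N, TrivBelow.{u} N := by
  intro N
  induction N with
  | zero => intro G _ _ h; exact absurd h (Nat.not_lt_zero _)
  | succ N ih =>
    intro G _ _ hlt R S T hne x hxS hxT
    by_contra hxD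
    have hb : TrivBelow.{u} (Nat.card G) := fun H _ _ h => ih H (by omega)
    have hx : Multi x := ⟨hxD, S, T, hne, hxS, hxT⟩
    by_cases h1 : OneBlock G
    · exact h1.not_multi R hb hF hx
    · exact TwoHyp.not_multi ⟨R, hb, hF, fun U y _ _ => two_of_not_one h1 U y⟩ (splitU hF R hb) hT hx

/-- Distinct Sylow 2-subgroups of a reduced group meet in the 2-core. -/
theorem triv (hF : KindFacts.{u}) (hT : TITheorem.{u}) {G : Type u} [Group G] [Finite G] (R : RG G) :
    Triv G :=
  trivBelow hF hT (Nat.card G + 1) G (Nat.lt_succ_self _) R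

end Cfsg.Agent.CISylow
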