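import Cfsg.Agent.Lib.CISylow.Wiring
import Cfsg.Agent.Lib.CISylow.Main

/-!
# The structure of groups with central Sylow 2-intersections
-/

set_option autoImplicit false
set_option linter.style.haveILetI false
set_option linter.unusedSectionVars false

namespace Cfsg.Agent.CISylow

open Subgroup
open Cfsg.Agent.CyclicSylowInter (KindTI)

universe u

variable {G : Type u} [Group G] [Finite G]

/-- The top is reduced. -/
theorem rg_top (hC : CI G) {S : Sylow 2 G}
    (hS : ∃ x ∈ (S : Subgroup G), ∃ s ∈ (S : Subgroup G), ¬ Commute x s)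
    (hp : ¬ IsPGroup 2 ↥(Top G)) : RG ↥(Top G) := by
  haveI := Fact.mk Nat.prime_two
  have hgen : Gen ↥(Top G) := gen_O2'
  refine ⟨(hC.map (QuotientGroup.mk'_surjective (Cfsg.oddCore G))).subgroup _,
    InvChar.Core.oddCore_eq_bot_of_isSubnormal (Cores.pPrimeCore_quotient_self 2)
      (Subgroup.Normal.isSubnormal inferInstance), hgen,
    forall_nonab (S := (sylTop S).mapSurjective topHom_surjective) ?_, fun P => ?_⟩
  · obtain ⟨x, hx, s, hs, hxs⟩ := hS
    exact ⟨_, mem_map_of_mem (topHom G) (mem_sylTop.2 hx :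
        (⟨x, le_O2' S hx⟩ : ↥(O2' G)) ∈ (sylTop S : Subgroup _)),
      _, mem_map_of_mem (topHom G) (mem_sylTop.2 hs :
        (⟨s, le_O2' S hs⟩ : ↥(O2' G)) ∈ (sylTop S : Subgroup _)),
      fun h => hxs (commute_of_topHom S.isPGroup' hx hs h)⟩
  · by_contra! h
    refine hp fun y => ?_
    have hy : y ∈ (P : Subgroup ↥(Top G)) :=
      ((hgen.ge.trans (iSup_le fun U => (h U).symm ▸ le_rfl)) (mem_top y))
    obtain ⟨k, hk⟩ := P.2 ⟨y, hy⟩
    exact ⟨k, congrArg Subtype.val hk⟩

theorem kindTI_top (hC : CI G) {S : Sylow 2 G}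
    (hS : ∃ x ∈ (S : Subgroup G), ∃ s ∈ (S : Subgroup G), ¬ Commute x s)
    (hp : ¬ IsPGroup 2 ↥(Top G)) : KindTI (↥(Top G) ⧸ center ↥(Top G)) := by
  have R := rg_top hC hS hp
  exact CyclicSylowInter.KindTI.congr (QuotientGroup.quotientMulEquivOfEq R.center_eq).symm
    (R.kindTI_quot CyclicSylowInter.kind_facts
      (triv CyclicSylowInter.kind_facts SETwoClosed.tiTheorem R)).1

theorem structure_ci (hC : CI G) :
    (Group.IsSolvable G ∧ Cfsg.PLengthLE 2 1 G) ∨
    (∀ S : Sylow 2 G, IsMulCommutative ↥(S : Subgroup G)) ∨ AltFive G ∨ AltTI G :=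
  goal_of_top hC fun _ hS hp => kindTI_top hC hS hp

end Cfsg.Agent.CISylow
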