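import Cfsg.Agent.Lib.CISylow.Basic
import Cfsg.Agent.Lib.PGroups.UniqueSubgroup

/-!
# A nonabelian Sylow 2-subgroup acting nontrivially on a group of odd order

Its quotient by a central subgroup is quaternion, so a central involution is fixed by its normaliser.
-/

set_option autoImplicit false
set_option linter.style.haveILetI false
set_option linter.unusedSectionVars false

namespace Cfsg.Agent.CISylow

open Subgroup
open scoped Pointwise
open Cfsg.Agent.ZStar.CyclicIntersections (conj_mem_smul mem_smul)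

variable {G : Type*} [Group G]

/-- Two elements generate the Sylow subgroup modulo its centre. -/
def TwoGen (S : Subgroup G) : Prop :=
  ∃ a ∈ S, ∃ b ∈ S, ∀ s ∈ S, ∃ (i j : ℕ) (z : G),
    z ∈ S ∧ (∀ t ∈ S, Commute z t) ∧ s = a ^ i * b ^ j * z

/-- Elements of `V` centralising a noncentral element of `S` centralise `S`. -/
theorem CI.commute_of_commute [Finite G] (hC : CI G) {S : Sylow 2 G} {V : Subgroup G} (hV : Odd (Nat.card V))
    (hSV : ∀ s ∈ (S : Subgroup G), ∀ v ∈ V, s * v * s⁻¹ ∈ V) {x s v : G} (hx : x ∈ (S : Subgroup G))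
    (hs : s ∈ (S : Subgroup G)) (hn : ¬ Commute x s) (hv : v ∈ V) (hvx : Commute v x) :
    ∀ u ∈ (S : Subgroup G), Commute v u := by
  intro u hu
  have hvS := hC.smul_eq_of_commute hx hs hn hvx
  have h1 : v * u * v⁻¹ * u⁻¹ ∈ (S : Subgroup G) := mul_mem (conj_mem_of_smul_eq hvS hu) (inv_mem hu)
  have h2 : v * u * v⁻¹ * u⁻¹ ∈ V := by
    rw [show v * u * v⁻¹ * u⁻¹ = v * (u * v⁻¹ * u⁻¹) by group]
    exact mul_mem hv (hSV u hu _ (inv_mem hv))
  haveI := Fact.mk Nat.prime_two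
  have h3 : v * u * v⁻¹ * u⁻¹ ∈ (S : Subgroup G) ⊓ V := ⟨h1, h2⟩
  rw [PLocal.Cores.inf_eq_bot_of_isPGroup_of_coprime S.isPGroup' (Nat.coprime_two_right.2 hV),
    mem_bot, mul_inv_eq_one, mul_inv_eq_iff_eq_mul] at h3
  exact h3

/-- A minimal invariant subgroup of `V` that is not centralised. -/
theorem exists_min_moved [Finite G] {S V : Subgroup G} (hSV : ∀ s ∈ S, ∀ v ∈ V, s * v * s⁻¹ ∈ V)
    (hne : ∃ s ∈ S, ∃ v ∈ V, ¬ Commute s v) :
    ∃ W : Subgroup G, W ≤ V ∧ (∀ s ∈ S, ∀ v ∈ W, s * v * s⁻¹ ∈ W) ∧ (∃ s ∈ S, ∃ v ∈ W, ¬ Commute s v) ∧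
      ∀ W' : Subgroup G, W' < W → (∀ s ∈ S, ∀ v ∈ W', s * v * s⁻¹ ∈ W') →
        ∀ v ∈ W', ∀ s ∈ S, Commute v s := by
  obtain ⟨W, ⟨hWV, hWS, hWne⟩, hmin⟩ := Set.Finite.exists_minimal
    (Set.toFinite {W : Subgroup G | W ≤ V ∧ (∀ s ∈ S, ∀ v ∈ W, s * v * s⁻¹ ∈ W) ∧
      ∃ s ∈ S, ∃ v ∈ W, ¬ Commute s v}) ⟨V, le_rfl, hSV, hne⟩
  refine ⟨W, hWV, hWS, hWne, fun W' hlt hW'S v hv s hs => ?_⟩
  by_contra hnc
  exact hlt.not_ge (hmin ⟨hlt.le.trans hWV, hW'S, s, hs, v, hv, fun h => hnc h.symm⟩ hlt.le)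

/-- The fixed points of a nontrivially acting element on a minimal subgroup are centralised. -/
theorem CI.fixed_centralised [Finite G] (hC : CI G) {S : Sylow 2 G} {W : Subgroup G} (hW : Odd (Nat.card W))
    (hWS : ∀ s ∈ (S : Subgroup G), ∀ v ∈ W, s * v * s⁻¹ ∈ W)
    (hmin : ∀ W' : Subgroup G, W' < W → (∀ s ∈ (S : Subgroup G), ∀ v ∈ W', s * v * s⁻¹ ∈ W') →
      ∀ v ∈ W', ∀ s ∈ (S : Subgroup G), Commute v s)
    {x v : G} (hx : x ∈ (S : Subgroup G)) (hxW : ∃ w ∈ W, ¬ Commute x w) (hv : v ∈ W)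
    (hvx : Commute v x) : ∀ u ∈ (S : Subgroup G), Commute v u := by
  by_cases hn : ∃ s ∈ (S : Subgroup G), ¬ Commute x s
  · obtain ⟨s, hs, hn⟩ := hn
    exact hC.commute_of_commute hW hWS hx hs hn hv hvx
  push Not at hn
  refine hmin (W ⊓ centralizer {x}) (lt_of_le_of_ne inf_le_left fun e => ?_) ?_ v
    ⟨hv, ZStar.CyclicIntersections.mem_cent.2 hvx⟩
  · obtain ⟨w, hw, hwx⟩ := hxW
    rw [← e] at hw
    exact hwx (ZStar.CyclicIntersections.mem_cent.1 hw.2).symm
  · intro s hs w hw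
    refine ⟨hWS s hs w hw.1, ZStar.CyclicIntersections.mem_cent.2 ?_⟩
    have hsx : Commute s x := (hn s hs).symm
    exact (hsx.mul_left (ZStar.CyclicIntersections.mem_cent.1 hw.2)).mul_left hsx.inv_left

/-- A nonabelian Sylow subgroup acting nontrivially on a group of odd order is generated by two
elements modulo its centre, and an involution acting nontrivially is fixed by its normaliser. -/
theorem CI.fixed_involution [Finite G] (hC : CI G) {S : Sylow 2 G}
    (hS : ∃ x ∈ (S : Subgroup G), ∃ s ∈ (S : Subgroup G), ¬ Commute x s)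
    {V : Subgroup G} (hV : Odd (Nat.card V))
    (hSV : ∀ s ∈ (S : Subgroup G), ∀ v ∈ V, s * v * s⁻¹ ∈ V)
    (hne : ∃ s ∈ (S : Subgroup G), ∃ v ∈ V, ¬ Commute s v) :
    (∃ c ∈ (S : Subgroup G), orderOf c = 2 ∧
      (∀ g ∈ normalizer ((S : Subgroup G) : Set G), g * c * g⁻¹ = c) ∧ ∃ v ∈ V, ¬ Commute c v) ∧
    TwoGen (S : Subgroup G) := by
  classical
  haveI := Fact.mk Nat.prime_two
  obtain ⟨W, hWV, hWS, ⟨s₀, hs₀, v₀, hv₀, hs₀v⟩, hmin⟩ := exists_min_moved hSV hne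
  have hW : Odd (Nat.card W) := hV.of_dvd_nat (card_dvd_of_le hWV)
  set P := ↥(S : Subgroup G)
  let K : Subgroup P := (centralizer (W : Set G)).subgroupOf (S : Subgroup G)
  have memK : ∀ {x : P}, x ∈ K ↔ ∀ w ∈ W, Commute (x : G) w := fun {x} =>
    ⟨fun h w hw => (mem_centralizer_iff.1 h w hw).symm, fun h => mem_centralizer_iff.2 fun w hw => (h w hw).symm⟩
  have hKc : K ≤ center P := by
    intro x hx
    refine mem_center_iff.2 fun y => Subtype.ext ?_
    by_contra hxy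
    refine hs₀v ((hC.commute_of_commute hW hWS x.2 y.2 (fun h => hxy h.eq.symm) hv₀
      (memK.1 hx v₀ hv₀).symm) s₀ hs₀).symm
  haveI hKn : K.Normal := ⟨fun x hx g => by
    rwa [mem_center_iff.1 (hKc hx) g, mul_inv_cancel_right]⟩
  let π := QuotientGroup.mk' K
  have hπ : ∀ x : P, π x = 1 ↔ x ∈ K := fun x => QuotientGroup.eq_one_iff x
  have hQ : IsPGroup 2 (P ⧸ K) := S.isPGroup'.to_quotient K
  have hncomm : ¬ IsCyclic (P ⧸ K) := by
    intro hcyc
    obtain ⟨x, hx, s, hs, hxs⟩ := hS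
    exact hxs (congrArg Subtype.val
      (commutative_of_cyclic_center_quotient π (by rw [QuotientGroup.ker_mk']; exact hKc)
        (⟨x, hx⟩ : P) ⟨s, hs⟩) :)
  -- two commuting involutions of the quotient coincide
  have hklein : ∀ q r : P ⧸ K, q ≠ 1 → r ≠ 1 → q ^ 2 = 1 → r ^ 2 = 1 → Commute q r → q = r := by
    intro q r hq hr hq2 hr2 hqr
    by_contra hne'
    obtain ⟨a, rfl⟩ := QuotientGroup.mk'_surjective K q
    obtain ⟨b, rfl⟩ := QuotientGroup.mk'_surjective K r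
    rw [← map_pow, hπ, pow_two] at hq2 hr2
    have hq' : ∃ w ∈ W, ¬ Commute (a : G) w := by
      by_contra! h; exact hq ((hπ a).2 (memK.2 h))
    obtain ⟨w, hw, haw⟩ := hq'
    refine haw (klein_trivial hW (fun v hv => hWS a a.2 v hv) (fun v hv => hWS b b.2 v hv)
      (fun v hv => memK.1 hq2 v hv) (fun v hv => memK.1 hr2 v hv) ?_ ?_ ?_ w hw)
    · intro v hv
      have hk : (b * a)⁻¹ * (a * b) ∈ K := by
        rw [← hπ, map_mul, map_inv, map_mul, map_mul, hqr.eq, inv_mul_cancel]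
      have e : (a : G) * b = b * a * (((b * a)⁻¹ * (a * b) : P) : G) :=
        congrArg Subtype.val (mul_inv_cancel_left (b * a) (a * b)).symm
      calc (a : G) * (b * v * (b : G)⁻¹) * (a : G)⁻¹ = (a * b) * v * ((a : G) * b)⁻¹ := by group
        _ = (b : G) * (a * v * (a : G)⁻¹) * (b : G)⁻¹ := by
            rw [e, mul_assoc _ _ v, (memK.1 hk v hv).eq, ← mul_assoc]; group
    · intro v hv hbv
      have hb' : ∃ w ∈ W, ¬ Commute (b : G) w := by
        by_contra! h; exact hr ((hπ b).2 (memK.2 h))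
      exact mul_inv_eq_iff_eq_mul.2
        (hC.fixed_centralised hW hWS hmin b.2 hb' hv (mul_inv_eq_iff_eq_mul.1 hbv).symm a a.2).symm.eq
    · intro v hv habv
      have hab' : ∃ w ∈ W, ¬ Commute ((a : G) * b) w := by
        by_contra! h
        refine hne' ?_
        have h1 : π a * π b = 1 := by rw [← map_mul, hπ]; exact memK.2 h
        have h2 : π b * π b = 1 := by rw [← map_mul, hπ]; exact hr2
        exact mul_right_cancel (h1.trans h2.symm)
      have h1 : Commute v ((a : G) * b) := by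
        refine (mul_inv_eq_iff_eq_mul.1 ?_).symm
        conv_rhs => rw [← habv]
        group
      exact mul_inv_eq_iff_eq_mul.2
        (hC.fixed_centralised hW hWS hmin (mul_mem a.2 b.2) hab' hv h1 a a.2).symm.eq
  obtain ⟨z, hz, hz1⟩ : ∃ z ∈ center (P ⧸ K), orderOf z = 2 := by
    haveI : Nontrivial (P ⧸ K) := by
      by_contra h
      rw [not_nontrivial_iff_subsingleton] at h
      exact hncomm inferInstance
    haveI := hQ.center_nontrivial
    obtain ⟨⟨z, hz⟩, hz2⟩ := exists_prime_orderOf_dvd_card' 2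
      (((hQ.to_subgroup (center (P ⧸ K))).card_eq_or_dvd).resolve_left Finite.one_lt_card.ne')
    exact ⟨z, hz, by rwa [orderOf_mk] at hz2⟩
  have huniq : ∀ A B : Subgroup (P ⧸ K), Nat.card A = 2 → Nat.card B = 2 → A = B := by
    have key : ∀ A : Subgroup (P ⧸ K), Nat.card A = 2 → A = zpowers z := by
      intro A hA
      obtain ⟨⟨y, hy⟩, hy2⟩ := exists_prime_orderOf_dvd_card' (G := A) 2 (by rw [hA])
      rw [orderOf_mk] at hy2
      have hyz : y = z := hklein y z (fun e => by simp [e] at hy2) (fun e => by simp [e] at hz1)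
        (orderOf_dvd_iff_pow_eq_one.1 hy2.dvd) (orderOf_dvd_iff_pow_eq_one.1 hz1.dvd) (mem_center_iff.1 hz y)
      exact (eq_of_le_of_card_ge (zpowers_le.2 (hyz ▸ hy)) (by rw [hA, Nat.card_zpowers, hz1])).symm
    exact fun A B hA hB => (key A hA).trans (key B hB).symm
  rcases PGroups.UniqueSubgroup.isCyclic_or_quaternion hQ huniq with hcyc | ⟨-, n, ⟨e⟩⟩
  · exact absurd hcyc hncomm
  rcases Nat.eq_zero_or_pos n with rfl | hn
  · exfalso
    refine hncomm ?_
    haveI : IsCyclic (QuaternionGroup (2 ^ 0)) := by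
      rw [pow_zero]; exact QuaternionGroup.quaternionGroup_one_isCyclic
    exact isCyclic_of_surjective e.symm e.symm.surjective
  set N := 2 ^ n with hN
  obtain ⟨a, ha⟩ := QuotientGroup.mk'_surjective K (e.symm (QuaternionGroup.a 1))
  obtain ⟨b, hb⟩ := QuotientGroup.mk'_surjective K (e.symm (QuaternionGroup.xa 0))
  have hea : e (π a) = QuaternionGroup.a 1 := by rw [ha, e.apply_symm_apply]
  have heb : e (π b) = QuaternionGroup.xa 0 := by rw [hb, e.apply_symm_apply]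
  haveI : NeZero N := ⟨(Nat.two_pow_pos n).ne'⟩
  have hrep : ∀ s : P, ∃ i j : ℕ, π s = π a ^ i * π b ^ j := by
    intro s
    cases h : e (π s) with
    | a i =>
      refine ⟨i.val, 0, e.injective ?_⟩
      rw [pow_zero, mul_one, map_pow, hea, h, QuaternionGroup.a_one_pow, ZMod.natCast_zmod_val]
    | xa i =>
      refine ⟨(-i).val, 1, e.injective ?_⟩
      rw [pow_one, map_mul, map_pow, hea, heb, h, QuaternionGroup.a_one_pow, ZMod.natCast_zmod_val,
        QuaternionGroup.a_mul_xa, zero_sub, neg_neg]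
  have inv_a : ∀ i : ZMod (2 * N), (QuaternionGroup.a i)⁻¹ = QuaternionGroup.a (-i) := fun i => rfl
  have inv_xa : ∀ i : ZMod (2 * N), (QuaternionGroup.xa i)⁻¹ = QuaternionGroup.xa ((N : ZMod (2 * N)) + i) :=
    fun i => rfl
  have h2N : (N : ZMod (2 * N)) * 2 = 0 := by
    rw [show (N : ZMod (2 * N)) * 2 = ((2 * N : ℕ) : ZMod (2 * N)) by push_cast; ring, ZMod.natCast_self]
  set d : P := b * a * b⁻¹ * a⁻¹ with hd
  obtain ⟨k, hk, hdk⟩ : ∃ k ∈ K, d = a⁻¹ * a⁻¹ * k := by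
    refine ⟨(a⁻¹ * a⁻¹)⁻¹ * d, ?_, (mul_inv_cancel_left _ _).symm⟩
    rw [← hπ]
    apply e.injective
    simp only [hd, map_mul, map_inv, map_one, hea, heb, QuaternionGroup.one_def]
    simp only [QuaternionGroup.xa_mul_a, inv_a, inv_xa,
      QuaternionGroup.xa_mul_xa, QuaternionGroup.a_mul_a]
    refine congrArg QuaternionGroup.a ?_
    linear_combination h2N
  have hkc : ∀ x : P, Commute k x := fun x => (mem_center_iff.1 (hKc hk) x).symm
  have hbab : b * a * b⁻¹ = a⁻¹ * k := by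
    calc b * a * b⁻¹ = d * a := (inv_mul_cancel_right _ _).symm
      _ = a⁻¹ * a⁻¹ * k * a := by rw [hdk]
      _ = a⁻¹ * k := by rw [mul_assoc _ k, (hkc a).eq, mul_assoc a⁻¹ a⁻¹, inv_mul_cancel_left]
  have had : Commute a d := by
    rw [hdk]; exact (((Commute.refl a).inv_right).mul_right (Commute.refl a).inv_right).mul_right (hkc a).symm
  have hdpow : d ^ N = 1 := by
    obtain ⟨k₂, hk₂, hb2⟩ : ∃ k₂ ∈ K, b * b = a ^ N * k₂ := by
      refine ⟨(a ^ N)⁻¹ * (b * b), ?_, (mul_inv_cancel_left _ _).symm⟩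
      rw [← hπ]
      apply e.injective
      simp only [map_mul, map_inv, map_pow, map_one, hea, heb, QuaternionGroup.a_one_pow,
        QuaternionGroup.xa_mul_xa, inv_a, QuaternionGroup.a_mul_a, QuaternionGroup.one_def]
      refine congrArg QuaternionGroup.a ?_
      ring
    have hk₂c : ∀ x : P, Commute k₂ x := fun x => (mem_center_iff.1 (hKc hk₂) x).symm
    have hbN : Commute b (a ^ N) := by
      rw [show a ^ N = b * b * k₂⁻¹ by rw [hb2, mul_inv_cancel_right]]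
      exact ((Commute.refl b).mul_right (Commute.refl b)).mul_right (hk₂c b).symm.inv_right
    have h1 : (b * a * b⁻¹) ^ N = a ^ N := by rw [conj_pow, hbN.eq, mul_inv_cancel_right]
    rw [hbab, (hkc a⁻¹).symm.mul_pow, inv_pow, inv_mul_eq_iff_eq_mul] at h1
    rw [hdk, (hkc _).symm.mul_pow, (Commute.refl a⁻¹).mul_pow, inv_pow, h1]
    group
  have hdlt : ∀ m, 0 < m → m < N → d ^ m ∉ K := by
    intro m hm hmN hmem
    have hk1 : π k = 1 := (hπ k).2 hk
    rw [← hπ, hdk, map_pow, map_mul, hk1, mul_one] at hmem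
    have h2 := congrArg e hmem
    rw [map_pow, map_one, map_mul, map_mul, map_inv, map_inv, hea, ← mul_inv_rev, inv_pow,
      inv_eq_one, ← pow_two, ← pow_mul] at h2
    have h3 := orderOf_dvd_of_pow_eq_one h2
    rw [QuaternionGroup.orderOf_a_one] at h3
    have := Nat.le_of_dvd (by omega) h3
    omega
  have hN2 : 2 * (N / 2) = N := by
    rw [hN]; exact Nat.two_mul_div_two_of_even (Nat.even_pow.2 ⟨even_two, hn.ne'⟩)
  have hN0 : 0 < N := Nat.two_pow_pos n
  set c : P := d ^ (N / 2)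
  have hcK : c ∉ K := hdlt _ (by omega) (by omega)
  have hc2 : orderOf c = 2 := by
    refine orderOf_eq_prime ?_ fun h => hcK (h ▸ one_mem K)
    rw [← pow_mul, mul_comm, hN2, hdpow]
  have hDn : (zpowers d).Normal := by
    have hconj : b * d * b⁻¹ = d⁻¹ := by
      conv_lhs => rw [hdk]
      rw [← conj_mul, ← conj_mul, ← conj_inv, hbab, ← (hkc b).eq, mul_inv_cancel_right, hdk]
      have h : ∀ x : P, Commute k x := hkc
      rw [mul_inv_rev, mul_inv_rev, inv_inv, mul_inv_rev, inv_inv]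
      calc k⁻¹ * a * (k⁻¹ * a) * k = k⁻¹ * (a * k⁻¹) * (a * k) := by group
        _ = k⁻¹ * (k⁻¹ * a) * (k * a) := by rw [(h a).inv_left.eq.symm, (h a).eq]
        _ = k⁻¹ * k⁻¹ * (a * k) * a := by group
        _ = k⁻¹ * k⁻¹ * (k * a) * a := by rw [(h a).eq]
        _ = k⁻¹ * (a * a) := by rw [mul_assoc k⁻¹ k⁻¹, inv_mul_cancel_left, mul_assoc]
    refine ⟨fun x hx g => ?_⟩
    obtain ⟨m, rfl⟩ := mem_zpowers_iff.1 hx
    obtain ⟨i, j, hg⟩ := hrep g
    obtain ⟨z, hz, rfl⟩ : ∃ z ∈ K, g = a ^ i * b ^ j * z :=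
      ⟨(a ^ i * b ^ j)⁻¹ * g, by rw [← hπ]; simp [hg], (mul_inv_cancel_left _ _).symm⟩
    have hzc : Commute z (d ^ m) := (mem_center_iff.1 (hKc hz) _).symm
    have hb' : ∀ j : ℕ, ∀ l : ℤ, ∃ l' : ℤ, b ^ j * d ^ l * (b ^ j)⁻¹ = d ^ l' := by
      intro j
      induction j with
      | zero => exact fun l => ⟨l, by simp⟩
      | succ j ih =>
        intro l
        obtain ⟨l', hl'⟩ := ih (-l)
        refine ⟨l', ?_⟩
        rw [← hl', zpow_neg, ← inv_zpow, ← hconj, conj_zpow, pow_succ]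
        group
    obtain ⟨l, hl⟩ := hb' j m
    refine ⟨l, ?_⟩
    calc d ^ l = a ^ i * d ^ l * (a ^ i)⁻¹ := by
          rw [((had.pow_left i).zpow_right l).eq, mul_inv_cancel_right]
      _ = a ^ i * (b ^ j * (z * d ^ m * z⁻¹) * (b ^ j)⁻¹) * (a ^ i)⁻¹ := by
          rw [hzc.eq, mul_inv_cancel_right, hl]
      _ = _ := by group
  haveI := hDn
  let ρ := QuotientGroup.mk' (zpowers d)
  have hρab : Commute (ρ a) (ρ b) := by
    have h : ρ d = 1 := (QuotientGroup.eq_one_iff _).2 (mem_zpowers d)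
    change ρ (b * a * b⁻¹ * a⁻¹) = 1 at h
    rw [map_mul, map_mul, map_inv, map_inv, mul_inv_eq_one, map_mul, mul_inv_eq_iff_eq_mul] at h
    exact h.symm
  have hcomm : ∀ s t : P, s * t * s⁻¹ * t⁻¹ ∈ zpowers d := by
    have hgen : ∀ s : P, ∃ i j : ℕ, ∃ z ∈ K, ρ s = ρ a ^ i * ρ b ^ j * ρ z := by
      intro s
      obtain ⟨i, j, h⟩ := hrep s
      refine ⟨i, j, (a ^ i * b ^ j)⁻¹ * s, by rw [← hπ]; simp [h], ?_⟩
      rw [← map_pow, ← map_pow, ← map_mul, ← map_mul]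
      exact congrArg ρ (mul_inv_cancel_left _ _).symm
    have hK' : ∀ z ∈ K, ∀ t, Commute (ρ z) (ρ t) := fun z hz t =>
      (show Commute z t from (mem_center_iff.1 (hKc hz) t).symm).map ρ
    intro s t
    obtain ⟨i, j, z, hz, hs⟩ := hgen s
    obtain ⟨i', j', z', hz', ht⟩ := hgen t
    have hA : Commute (ρ a) (ρ t) := by
      rw [ht]
      exact (((Commute.refl (ρ a)).pow_right i').mul_right (hρab.pow_right j')).mul_right (hK' z' hz' a).symm
    have hB : Commute (ρ b) (ρ t) := by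
      rw [ht]
      exact ((hρab.symm.pow_right i').mul_right ((Commute.refl (ρ b)).pow_right j')).mul_right
        (hK' z' hz' b).symm
    have hst : Commute (ρ s) (ρ t) := by
      rw [hs]; exact ((hA.pow_left i).mul_left (hB.pow_left j)).mul_left (hK' z hz t)
    rw [← QuotientGroup.eq_one_iff (N := zpowers d)]
    show ρ (s * t * s⁻¹ * t⁻¹) = 1
    rw [map_mul, map_mul, map_mul, map_inv, map_inv, hst.eq, mul_inv_cancel_right, mul_inv_cancel]
  refine ⟨⟨(c : G), c.2, by rwa [orderOf_coe], ?_, ?_⟩, ?_⟩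
  · intro g hg
    have hgS : ∀ x : P, g * (x : G) * g⁻¹ ∈ (S : Subgroup G) := fun x =>
      (mem_normalizer_iff.1 hg _).1 x.2
    set s : P := ⟨_, hgS b⟩
    set t : P := ⟨_, hgS a⟩
    obtain ⟨l, hl⟩ := mem_zpowers_iff.1 (hcomm s t)
    have hgd : g * (d : G) * g⁻¹ = (d : G) ^ l := by
      rw [← coe_zpow, hl]
      show g * ((b : G) * a * (b : G)⁻¹ * (a : G)⁻¹) * g⁻¹ =
        g * b * g⁻¹ * (g * a * g⁻¹) * (g * b * g⁻¹)⁻¹ * (g * a * g⁻¹)⁻¹
      group
    have hlo : Odd l := by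
      rw [← Int.not_even_iff_odd]
      rintro ⟨r, rfl⟩
      have h : g * (c : G) * g⁻¹ = 1 := by
        show g * ((d ^ (N / 2) : P) : G) * g⁻¹ = 1
        rw [coe_pow, ← conj_pow, hgd, ← zpow_natCast, ← zpow_mul,
          show (r + r) * ((N / 2 : ℕ) : ℤ) = (N : ℤ) * r by
            rw [show (N : ℤ) = ((2 * (N / 2) : ℕ) : ℤ) by rw [hN2]]; push_cast; ring,
          zpow_mul, zpow_natCast, ← coe_pow, hdpow, coe_one, one_zpow]
      rw [mul_inv_eq_one, mul_eq_left] at h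
      exact hcK ((Subtype.ext h : c = 1) ▸ one_mem K)
    obtain ⟨r, rfl⟩ := hlo
    show g * ((d ^ (N / 2) : P) : G) * g⁻¹ = ((d ^ (N / 2) : P) : G)
    rw [coe_pow, ← conj_pow, hgd, ← zpow_natCast, ← zpow_mul,
      show (2 * r + 1) * ((N / 2 : ℕ) : ℤ) = (N : ℤ) * r + ((N / 2 : ℕ) : ℤ) by
        rw [show (N : ℤ) = ((2 * (N / 2) : ℕ) : ℤ) by rw [hN2]]; push_cast; ring,
      zpow_add, zpow_mul, zpow_natCast, ← coe_pow, hdpow, coe_one, one_zpow, one_mul, zpow_natCast]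
  · by_contra! h
    exact hcK (memK.2 fun w hw => h w (hWV hw))
  · refine ⟨a, a.2, b, b.2, fun s hs => ?_⟩
    obtain ⟨i, j, h⟩ := hrep ⟨s, hs⟩
    have hz : (a ^ i * b ^ j)⁻¹ * (⟨s, hs⟩ : P) ∈ K := by rw [← hπ]; simp [h]
    refine ⟨i, j, (((a ^ i * b ^ j)⁻¹ * (⟨s, hs⟩ : P) : P) : G), SetLike.coe_mem _,
      fun t ht => (congrArg Subtype.val (mem_center_iff.1 (hKc hz) ⟨t, ht⟩)).symm, ?_⟩
    exact (congrArg Subtype.val (mul_inv_cancel_left (a ^ i * b ^ j) (⟨s, hs⟩ : P))).symm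

end Cfsg.Agent.CISylow
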