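import Cfsg.Agent.Lib.CISylow.Block
import Cfsg.Agent.Lib.CISylow.Data

/-!
# The facts on one Sylow subgroup over an intersection
-/

set_option autoImplicit false
set_option linter.style.haveILetI false
set_option linter.unusedSectionVars false

namespace Cfsg.Agent.CISylow

open Subgroup
open scoped Pointwise
open Cfsg.Agent.CyclicSylowInter (KindTI KindFacts TIData)
open Cfsg.Agent.ZStar.CyclicIntersections (conj_mem_smul mem_smul mem_cent)

universe u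

variable {G : Type u} [Group G] [Finite G]

/-- What is used of a Sylow subgroup `S` through `x` and the intersection `E = Ix x`. -/
structure Blk (S : Sylow 2 G) (x t : G) (n i M : ℕ) : Prop where
  mem : x ∈ (S : Subgroup G)
  core_le : Cfsg.pCore 2 G ≤ Ix x
  exists_inv : ∃ e ∈ Ix x, e ∉ Cfsg.pCore 2 G ∧ e * e ∈ Cfsg.pCore 2 G
  cent : ∀ e ∈ Ix x, ∀ s ∈ (S : Subgroup G), Commute e s
  two_le : 2 ≤ n
  i_mem : i = 1 ∨ i = 2 ∨ i = 3
  t_mem : t ∈ gx x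
  t_smul : t • S = S
  t_cent : ∀ e ∈ Ix x, Commute t e
  odd_M : Odd M
  t_pow : ∀ s ∈ (S : Subgroup G), Commute (t ^ M) s
  y_comm : ∀ y ∈ (S : Subgroup G), y * y ∈ Ix x → ∀ s ∈ (S : Subgroup G), y * s * y⁻¹ * s⁻¹ ∈ Ix x
  c_sq : ∀ z ∈ (S : Subgroup G), (∀ s ∈ (S : Subgroup G), z * s * z⁻¹ * s⁻¹ ∈ Ix x) → z * z ∈ Ix x
  q4 : ∀ s ∈ (S : Subgroup G), s * s * (s * s) ∈ Ix x
  one_sq : i = 1 → ∀ s ∈ (S : Subgroup G), s * s ∈ Ix x
  exists_nonsq : 2 ≤ i → ∃ s ∈ (S : Subgroup G), s * s ∉ Ix x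
  exists_root : 2 ≤ i → ∀ y ∈ (S : Subgroup G), y * y ∈ Ix x →
    ∃ s ∈ (S : Subgroup G), (s * s)⁻¹ * y ∈ Ix x
  trans : ∀ y ∈ (S : Subgroup G), ∀ y' ∈ (S : Subgroup G), y * y ∈ Ix x → y' * y' ∈ Ix x →
    y ∉ Ix x → y' ∉ Ix x → ∃ j : ℕ, (t ^ j * y * (t ^ j)⁻¹)⁻¹ * y' ∈ Ix x
  indep : 3 ≤ n → ∃ u ∈ (S : Subgroup G), ∃ v ∈ (S : Subgroup G), ∃ w ∈ (S : Subgroup G),
    u * u ∈ Ix x ∧ v * v ∈ Ix x ∧ w * w ∈ Ix x ∧
    ∀ y ∈ ([u, v, w, u * v, u * w, v * w, u * v * w] : List G), y ∉ Ix x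
  two_cases : n = 2 → ∃ u ∈ (S : Subgroup G), ∃ v ∈ (S : Subgroup G),
    u * u ∈ Ix x ∧ v * v ∈ Ix x ∧ u ∉ Ix x ∧ v ∉ Ix x ∧ u * v ∉ Ix x ∧
      ∀ y ∈ (S : Subgroup G), y * y ∈ Ix x →
      y ∈ Ix x ∨ u⁻¹ * y ∈ Ix x ∨ v⁻¹ * y ∈ Ix x ∨ (u * v)⁻¹ * y ∈ Ix x
  sq_inj : i = 2 → ∀ a ∈ (S : Subgroup G), ∀ b ∈ (S : Subgroup G), (a * a)⁻¹ * (b * b) ∈ Ix x →
    a⁻¹ * b * (a⁻¹ * b) ∈ Ix x
  sq_indep : i = 2 → ∃ a ∈ (S : Subgroup G), ∃ b ∈ (S : Subgroup G), ∃ c ∈ (S : Subgroup G),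
    ∀ y ∈ ([a, b, c, a * b, a * c, b * c, a * b * c] : List G), y * y ∉ Ix x
  dvd_card : (2 ^ n) ^ i ∣ Nat.card (gTop x) ∧ (n = 2 → 3 ∣ Nat.card (gTop x))

/-- An element of odd order moving one of three involutions transitively has order divisible by three. -/
theorem three_dvd_of_trans {L : Type u} [Group L] [Finite L] {S : Sylow 2 L} {n i : ℕ}
    (d : TIData S n i) (hn : n = 2) : 3 ∣ Nat.card L := by
  classical
  obtain ⟨τ, hτ, hodd, htr, -⟩ := d.torus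
  set A := {x : L | x ∈ (S : Subgroup L) ∧ orderOf x = 2}
  have hA : A.ncard = 3 := by rw [d.ncard_inv, hn]; norm_num
  obtain ⟨u, hu⟩ := Set.nonempty_of_ncard_ne_zero (s := A) (by omega)
  have hmem : ∀ j : ℕ, τ ^ j * u * (τ ^ j)⁻¹ ∈ A := fun j =>
    ⟨(mem_normalizer_iff.1 (pow_mem hτ j) u).1 hu.1, by rw [Involutions.Basic.orderOf_conj, hu.2]⟩
  have hfix : ∀ k : ℕ, τ ^ k * u * (τ ^ k)⁻¹ = u → k.Coprime (orderOf τ) → False := by
    intro k hk hcop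
    obtain ⟨m, hm⟩ := exists_pow_eq_self_of_coprime hcop
    have hc : Commute τ u := hm ▸ ((show Commute (τ ^ k) u from mul_inv_eq_iff_eq_mul.1 hk).pow_left m)
    have : A ⊆ {u} := fun y hy => by
      obtain ⟨j, hj⟩ := htr u y hu.1 hy.1 hu.2 hy.2
      rw [(hc.pow_left j).eq, mul_inv_cancel_right] at hj
      exact hj.symm
    have := Set.ncard_le_ncard this (Set.toFinite _)
    rw [Set.ncard_singleton] at this
    omega
  by_contra h3
  have h3' : Nat.Coprime 3 (orderOf τ) :=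
    (Nat.prime_three.coprime_iff_not_dvd).2 fun h => h3 (h.trans (orderOf_dvd_natCard τ))
  have h12 : ∀ j : ℕ, τ ^ (j + 1) * u * (τ ^ (j + 1))⁻¹ = τ * (τ ^ j * u * (τ ^ j)⁻¹) * τ⁻¹ := fun j => by
    rw [pow_succ']; group
  have hsub : ({u, τ ^ 1 * u * (τ ^ 1)⁻¹, τ ^ 2 * u * (τ ^ 2)⁻¹, τ ^ 3 * u * (τ ^ 3)⁻¹} : Set L) ⊆ A := by
    rintro y (rfl | rfl | rfl | rfl)
    · exact hu
    all_goals exact hmem _
  have h1 : τ ^ 1 * u * (τ ^ 1)⁻¹ ≠ u := fun e => hfix 1 e (Nat.coprime_one_left _)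
  have h2 : τ ^ 2 * u * (τ ^ 2)⁻¹ ≠ u := fun e => hfix 2 e (Nat.coprime_two_left.2 hodd)
  have h3u : τ ^ 3 * u * (τ ^ 3)⁻¹ ≠ u := fun e => hfix 3 e h3'
  have h21 : τ ^ 2 * u * (τ ^ 2)⁻¹ ≠ τ ^ 1 * u * (τ ^ 1)⁻¹ := fun e => h1 (by
    rw [h12 1] at e
    simpa using e)
  have h31 : τ ^ 3 * u * (τ ^ 3)⁻¹ ≠ τ ^ 1 * u * (τ ^ 1)⁻¹ := fun e => h2 (by
    rw [h12 2] at e
    simpa using e)
  have h32 : τ ^ 3 * u * (τ ^ 3)⁻¹ ≠ τ ^ 2 * u * (τ ^ 2)⁻¹ := fun e => h21 (by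
    rw [h12 2, h12 1] at e
    rw [h12 1]
    simpa using e)
  have := Set.ncard_le_ncard hsub (Set.toFinite _)
  rw [hA, Set.ncard_insert_of_notMem (by
      simp only [Set.mem_insert_iff, Set.mem_singleton_iff, not_or]
      exact ⟨Ne.symm h1, Ne.symm h2, Ne.symm h3u⟩),
    Set.ncard_insert_of_notMem (by
      simp only [Set.mem_insert_iff, Set.mem_singleton_iff, not_or]
      exact ⟨Ne.symm h21, Ne.symm h31⟩),
    Set.ncard_pair (Ne.symm h32)] at this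
  omega

/-- The facts exist. -/
theorem exists_blk (hF : KindFacts.{u}) (R : RG G) (hb : TrivBelow.{u} (Nat.card G)) {x : G}
    (hx : Multi x) {S : Sylow 2 G} (hS : x ∈ (S : Subgroup G)) : ∃ t n i M, Blk S x t n i M := by
  classical
  haveI := Fact.mk Nat.prime_two
  set D := Cfsg.pCore 2 (gRed x)
  set p := QuotientGroup.mk' (Cfsg.oddCore ↥(gx x))
  set S' : Sylow 2 (gTop x) := (gSyl hS).mapSurjective (QuotientGroup.mk'_surjective D)
  set f := gHom x with hf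
  obtain ⟨-, -, hd⟩ := hF.1 _ (kind_gTop R hb hx hF).1
  obtain ⟨n, i, d⟩ := hd S'
  obtain ⟨τ, hτ, hodd, htr, -⟩ := d.torus
  obtain ⟨t, ht⟩ := gHom_surjective x τ
  have hmem : ∀ {u : ↥(gx x)}, (u : G) ∈ (S : Subgroup G) → f u ∈ (S' : Subgroup (gTop x)) :=
    fun {u} hu => ⟨p u, mem_gSyl hS hu, rfl⟩
  have hlift : ∀ l ∈ (S' : Subgroup (gTop x)), ∃ u : ↥(gx x), (u : G) ∈ (S : Subgroup G) ∧ f u = l := by
    rintro l ⟨r, ⟨u, hu, rfl⟩, rfl⟩
    exact ⟨u, hu, rfl⟩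
  have hE : ∀ {u : ↥(gx x)}, (u : G) ∈ (S : Subgroup G) → ((u : G) ∈ Ix x ↔ f u = 1) :=
    fun {u} hu => mem_Ix_iff R hb hx hS hu
  -- `t` normalises `S`
  have htS : (t : G) • S = S := by
    have hxV := smul_eq_self_of_mem R.ci hx t.2 hS
    refine Sylow.ext (S.3 ((t : G) • S).isPGroup' fun s hs => ?_) |>.trans rfl
    let u : ↥(gx x) := ⟨s, le_gx hS hs⟩
    have h1 : f (t⁻¹ * u * t) ∈ (S' : Subgroup (gTop x)) := by
      rw [map_mul, map_mul, map_inv, hf, ht]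
      exact ZStar.CyclicIntersections.conj_mem_of_mem_normalizer hτ (hmem (u := u) hs)
    obtain ⟨r, hr, hre⟩ := h1
    have hk : r⁻¹ * p (t⁻¹ * u * t) ∈ D := QuotientGroup.eq.1 hre
    have h2 : p (t⁻¹ * u * t) ∈ (gSyl hS : Subgroup (gRed x)) := by
      rw [← mul_inv_cancel_left r (p _)]
      exact mul_mem hr (PLocal.Cores.pCore_le_sylow _ hk)
    refine mem_smul.2 (mem_of_gSyl R hx hS (V := (t⁻¹ : G) • S) ?_ h2)
    show (t : G)⁻¹ * s * t ∈ ((((t : G)⁻¹) • S : Sylow 2 G) : Subgroup G)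
    simpa using conj_mem_smul (t : G)⁻¹ hs
  have hconj : ∀ j : ℕ, ∀ {s : G}, s ∈ (S : Subgroup G) →
      (t : G) ^ j * s * ((t : G) ^ j)⁻¹ ∈ (S : Subgroup G) := fun j s hs => by
    refine conj_mem_of_smul_eq ?_ hs
    induction j with
    | zero => rw [pow_zero, one_smul]
    | succ j ih => rw [pow_succ, mul_smul, htS, ih]
  have hcomm : ∀ {a b : ↥(gx x)}, f a * f b = f b * f a → (a : G) ∈ (S : Subgroup G) →
      (b : G) ∈ (S : Subgroup G) → (a : G) * b * (a : G)⁻¹ * (b : G)⁻¹ ∈ Ix x := by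
    intro a b h ha hb'
    refine (hE (u := a * b * a⁻¹ * b⁻¹) (mul_mem (mul_mem (mul_mem ha hb') (inv_mem ha)) (inv_mem hb'))).2 ?_
    rw [map_mul, map_mul, map_mul, map_inv, map_inv, h, mul_inv_cancel_right, mul_inv_cancel]
  have hEinv : ∀ {y : ↥(gx x)}, (y : G) ∈ (S : Subgroup G) → (y : G) * y ∈ Ix x → f y * f y = 1 :=
    fun {y} hy h => by rw [← map_mul]; exact (hE (u := y * y) (mul_mem hy hy)).1 h
  have hord : ∀ {y : ↥(gx x)}, (y : G) ∈ (S : Subgroup G) → (y : G) * y ∈ Ix x → (y : G) ∉ Ix x →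
      orderOf (f y) = 2 := fun {y} hy h h' =>
    Involutions.Basic.orderOf_two_iff.2 ⟨hEinv hy h, fun e => h' ((hE hy).2 e)⟩
  have hsqlift : ∀ l ∈ sqOne S', ∃ u : ↥(gx x), (u : G) ∈ (S : Subgroup G) ∧ f u = l ∧
      (u : G) * u ∈ Ix x := by
    intro l hl
    obtain ⟨u, hu, rfl⟩ := hlift l hl.1
    exact ⟨u, hu, rfl, (hE (u := u * u) (mul_mem hu hu)).2 (by rw [map_mul, hl.2])⟩
  refine ⟨t, n, i, orderOf τ, ?_⟩
  exact
  { mem := hS
    core_le := fun z hz => mem_Ix.2 fun U _ => PLocal.Cores.pCore_le_sylow U hz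
    exists_inv := by
      have hex : ∃ k : ℕ, x ^ 2 ^ k ∈ Cfsg.pCore 2 G := by
        obtain ⟨k, hk⟩ := S.isPGroup' ⟨x, hS⟩
        exact ⟨k, by rw [show x ^ 2 ^ k = 1 by simpa using congrArg Subtype.val hk]; exact one_mem _⟩
      obtain ⟨k, hk⟩ : ∃ k, Nat.find hex = k + 1 := Nat.exists_eq_add_one.2 <| Nat.pos_of_ne_zero fun h =>
        hx.1 (by simpa [h] using Nat.find_spec hex)
      refine ⟨x ^ 2 ^ k, pow_mem (self_mem_Ix x) _, Nat.find_min hex (by omega), ?_⟩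
      have := Nat.find_spec hex
      rwa [hk, pow_succ, pow_mul, pow_two] at this
    cent := fun e he s hs => by
      by_cases heD : e ∈ Cfsg.pCore 2 G
      · exact (mem_center_iff.1 (R.pCore_le_center heD) s).symm
      · exact (Ix_eq_of_mem R hb hx he heD).1.commute R.ci (Ix_le hS he) hs
    two_le := d.two_le
    i_mem := d.i_mem
    t_mem := t.2
    t_smul := htS
    t_cent := fun e he => by
      have heS := Ix_le hS he
      let u : ↥(gx x) := ⟨e, le_gx hS heS⟩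
      have hc := mem_center_iff.1 ((rg_gRed R hx).pCore_le_center (gHom_eq_one.1 ((hE (u := u) heS).1 he)))
        (p t)
      have h := eq_of_mk_eq R hx (U := S) (V := S) (u := t * u * t⁻¹) (v := u) (by simpa using hconj 1 heS)
        heS (by rw [map_mul, map_mul, map_inv, hc, mul_inv_cancel_right])
      exact mul_inv_eq_iff_eq_mul.1 (congrArg Subtype.val h)
    odd_M := hodd
    t_pow := fun s hs => commute_ker R hb hx hS (k := t ^ orderOf τ)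
      (by rw [map_pow, ← hf, ht, pow_orderOf_eq_one]) hs
    y_comm := fun y hy hyy s hs => hcomm (a := ⟨y, le_gx hS hy⟩) (b := ⟨s, le_gx hS hs⟩)
      (commute_of_sq d (hmem hy) (hEinv hy hyy) (hmem hs)).eq hy hs
    c_sq := fun z hz h => by
      refine (hE (u := ⟨z, le_gx hS hz⟩ * ⟨z, le_gx hS hz⟩) (mul_mem hz hz)).2 ?_
      rw [map_mul]
      refine d.center_sq _ (hmem hz) fun l hl => ?_
      obtain ⟨s, hs, rfl⟩ := hlift l hl
      have h1 := (hE (u := ⟨z, le_gx hS hz⟩ * s * ⟨z, le_gx hS hz⟩⁻¹ * s⁻¹)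
        (mul_mem (mul_mem (mul_mem hz hs) (inv_mem hz)) (inv_mem hs))).1 (h s hs)
      rw [map_mul, map_mul, map_mul, map_inv, map_inv, mul_inv_eq_one, mul_inv_eq_iff_eq_mul] at h1
      exact h1
    q4 := fun s hs => by
      refine (hE (u := ⟨s, le_gx hS hs⟩ * ⟨s, le_gx hS hs⟩ * (⟨s, le_gx hS hs⟩ * ⟨s, le_gx hS hs⟩))
        (mul_mem (mul_mem hs hs) (mul_mem hs hs))).2 ?_
      rw [map_mul, map_mul]
      exact d.sq_sq _ (hmem hs)
    one_sq := fun hi s hs => (hE (u := ⟨s, le_gx hS hs⟩ * ⟨s, le_gx hS hs⟩) (mul_mem hs hs)).2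
      (by rw [map_mul]; exact elementary_of_one d hi (hmem hs))
    exists_nonsq := fun hi => by
      obtain ⟨l, hl, hll⟩ := exists_nonsq d hi
      obtain ⟨s, hs, rfl⟩ := hlift l hl
      exact ⟨s, hs, fun h => hll (hEinv hs h)⟩
    exists_root := fun hi y hy hyy => by
      obtain ⟨l, hl, hll⟩ := exists_root d hi (w := f ⟨y, le_gx hS hy⟩) ⟨hmem hy, hEinv hy hyy⟩
      obtain ⟨s, hs, rfl⟩ := hlift l hl
      exact ⟨s, hs, (hE (u := (s * s)⁻¹ * ⟨y, le_gx hS hy⟩) (mul_mem (inv_mem (mul_mem hs hs)) hy)).2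
        (by rw [map_mul, map_inv, map_mul, hll, inv_mul_cancel])⟩
    trans := fun y hy y' hy' hyy hyy' hyE hyE' => by
      let a : ↥(gx x) := ⟨y, le_gx hS hy⟩
      let b : ↥(gx x) := ⟨y', le_gx hS hy'⟩
      obtain ⟨j, hj⟩ := htr (f a) (f b) (hmem hy) (hmem hy') (hord (y := a) hy hyy hyE)
        (hord (y := b) hy' hyy' hyE')
      refine ⟨j, (hE (u := (t ^ j * a * (t ^ j)⁻¹)⁻¹ * b) (mul_mem (inv_mem (hconj j hy)) hy')).2 ?_⟩
      rw [map_mul, map_inv, map_mul, map_mul, map_inv, map_pow, ← hj, hf, ht, inv_mul_cancel]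
    indep := fun hn => by
      obtain ⟨u₀, hu₀, v₀, hv₀, w₀, hw₀, h1, h2, h3, h4, h5, h6, h7⟩ := exists_inv_indep d hn
      obtain ⟨u, hu, rfl, huu⟩ := hsqlift u₀ hu₀
      obtain ⟨v, hv, rfl, hvv⟩ := hsqlift v₀ hv₀
      obtain ⟨w, hw, rfl, hww⟩ := hsqlift w₀ hw₀
      refine ⟨u, hu, v, hv, w, hw, huu, hvv, hww, ?_⟩
      simp only [List.mem_cons, List.not_mem_nil, or_false]
      rintro y (rfl | rfl | rfl | rfl | rfl | rfl | rfl) hy
      · exact h1 ((hE hu).1 hy)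
      · exact h2 ((hE hv).1 hy)
      · exact h3 ((hE hw).1 hy)
      · exact h4 (by rw [← map_mul]; exact (hE (u := u * v) (mul_mem hu hv)).1 hy)
      · exact h5 (by rw [← map_mul]; exact (hE (u := u * w) (mul_mem hu hw)).1 hy)
      · exact h6 (by rw [← map_mul]; exact (hE (u := v * w) (mul_mem hv hw)).1 hy)
      · exact h7 (by rw [← map_mul, ← map_mul]; exact (hE (u := u * v * w) (mul_mem (mul_mem hu hv) hw)).1 hy)
    two_cases := fun hn => by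
      obtain ⟨u₀, hu₀, v₀, hv₀, h1, h1v, h1w, h⟩ := exists_two_cases d hn
      obtain ⟨u, hu, rfl, huu⟩ := hsqlift u₀ hu₀
      obtain ⟨v, hv, rfl, hvv⟩ := hsqlift v₀ hv₀
      refine ⟨u, hu, v, hv, huu, hvv, fun he => h1 ((hE hu).1 he), fun he => h1v ((hE hv).1 he),
        fun he => h1w (by rw [← map_mul]; exact (hE (u := u * v) (mul_mem hu hv)).1 he), fun y hy hyy => ?_⟩
      let a : ↥(gx x) := ⟨y, le_gx hS hy⟩
      rcases h (f a) ⟨hmem hy, hEinv (y := a) hy hyy⟩ with e | e | e | e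
      · exact Or.inl ((hE (u := a) hy).2 e)
      · exact Or.inr (Or.inl ((hE (u := u⁻¹ * a) (mul_mem (inv_mem hu) hy)).2
          (by rw [map_mul, map_inv, e, inv_mul_cancel])))
      · exact Or.inr (Or.inr (Or.inl ((hE (u := v⁻¹ * a) (mul_mem (inv_mem hv) hy)).2
          (by rw [map_mul, map_inv, e, inv_mul_cancel]))))
      · exact Or.inr (Or.inr (Or.inr ((hE (u := (u * v)⁻¹ * a)
          (mul_mem (inv_mem (mul_mem hu hv)) hy)).2 (by rw [map_mul, map_inv, e, map_mul, inv_mul_cancel]))))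
    sq_inj := fun hi a ha b hb' h => by
      let a' : ↥(gx x) := ⟨a, le_gx hS ha⟩
      let b' : ↥(gx x) := ⟨b, le_gx hS hb'⟩
      have h1 := (hE (u := (a' * a')⁻¹ * (b' * b'))
        (mul_mem (inv_mem (mul_mem ha ha)) (mul_mem hb' hb'))).1 h
      rw [map_mul, map_inv, inv_mul_eq_one, map_mul, map_mul] at h1
      refine (hE (u := a'⁻¹ * b' * (a'⁻¹ * b'))
        (mul_mem (mul_mem (inv_mem ha) hb') (mul_mem (inv_mem ha) hb'))).2 ?_
      rw [map_mul, map_mul, map_inv]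
      exact sq_inj d hi (hmem ha) (hmem hb') h1
    sq_indep := fun hi => by
      obtain ⟨a₀, ha₀, b₀, hb₀, c₀, hc₀, h⟩ := exists_sq_indep d hi
      obtain ⟨a, ha, rfl⟩ := hlift a₀ ha₀
      obtain ⟨b, hb', rfl⟩ := hlift b₀ hb₀
      obtain ⟨c, hc, rfl⟩ := hlift c₀ hc₀
      refine ⟨a, ha, b, hb', c, hc, ?_⟩
      simp only [List.mem_cons, List.not_mem_nil, or_false] at h ⊢
      rintro y (rfl | rfl | rfl | rfl | rfl | rfl | rfl) hy
      · exact h _ (Or.inl rfl) (hEinv ha hy)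
      · exact h _ (Or.inr (Or.inl rfl)) (hEinv hb' hy)
      · exact h _ (Or.inr (Or.inr (Or.inl rfl))) (hEinv hc hy)
      · exact h _ (Or.inr (Or.inr (Or.inr (Or.inl rfl))))
          (by rw [← map_mul]; exact hEinv (y := a * b) (mul_mem ha hb') hy)
      · exact h _ (Or.inr (Or.inr (Or.inr (Or.inr (Or.inl rfl)))))
          (by rw [← map_mul]; exact hEinv (y := a * c) (mul_mem ha hc) hy)
      · exact h _ (Or.inr (Or.inr (Or.inr (Or.inr (Or.inr (Or.inl rfl))))))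
          (by rw [← map_mul]; exact hEinv (y := b * c) (mul_mem hb' hc) hy)
      · exact h _ (Or.inr (Or.inr (Or.inr (Or.inr (Or.inr (Or.inr rfl))))))
          (by rw [← map_mul, ← map_mul]; exact hEinv (y := a * b * c) (mul_mem (mul_mem ha hb') hc) hy)
    dvd_card := ⟨d.card_sylow ▸ card_subgroup_dvd_card _, three_dvd_of_trans d⟩ }

end Cfsg.Agent.CISylow
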