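import Cfsg.Agent.Lib.CISylow.Local
import Cfsg.Agent.Lib.Involutions.StronglyEmbedded

/-!
# One intersection in each Sylow subgroup

The normaliser of an intersection is strongly embedded modulo the 2-core, so all involutions there lie
in intersections; but the centre of a Sylow subgroup modulo the intersection lifts to an involution.
-/

set_option autoImplicit false
set_option linter.style.haveILetI false
set_option linter.unusedSectionVars false

namespace Cfsg.Agent.CISylow

open Subgroup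
open scoped Pointwise IsMulCommutative
open Cfsg.Agent.CyclicSylowInter (KindFacts)
open Cfsg.Agent.ZStar.CyclicIntersections (conj_mem_smul mem_smul mem_cent)

universe u

variable {G : Type u} [Group G]

theorem mem_Ix_conj {g x y : G} : y ∈ Ix (g * x * g⁻¹) ↔ g⁻¹ * y * g ∈ Ix x := by
  simp only [mem_Ix]
  refine ⟨fun h S hS => mem_smul.1 (h (g • S) (conj_mem_smul g hS)), fun h S hS => ?_⟩
  have := h (g⁻¹ • S) (by simpa [mul_assoc] using conj_mem_smul g⁻¹ hS)
  simpa [mul_assoc] using conj_mem_smul g this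

theorem Multi.conj {x : G} (hx : Multi x) (g : G) : Multi (g * x * g⁻¹) := by
  obtain ⟨hD, S, T, hne, hS, hT⟩ := hx
  refine ⟨fun h => hD ?_, g • S, g • T, fun e => hne (smul_left_cancel g e), conj_mem_smul g hS,
    conj_mem_smul g hT⟩
  simpa [mul_assoc] using Normal.conj_mem (inferInstance : (Cfsg.pCore 2 G).Normal) _ h g⁻¹

/-- Each Sylow subgroup has at most one intersection. -/
def OneBlock (G : Type*) [Group G] : Prop :=
  ∀ x y : G, Multi x → Multi y → ∀ S : Sylow 2 G, x ∈ (S : Subgroup G) → y ∈ (S : Subgroup G) → Ix x = Ix y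

variable [Finite G]

/-- A 2-element outside the 2-core normalises only one intersection. -/
theorem OneBlock.eq_of_normalizes (h1 : OneBlock G) {x y a : G} (hx : Multi x) (hy : Multi y)
    (ha : a ∉ Cfsg.pCore 2 G) (ha2 : IsPGroup 2 ↥(zpowers a))
    (hax : a ∈ normalizer (Ix x : Set G)) (hay : a ∈ normalizer (Ix y : Set G)) : Ix x = Ix y := by
  haveI := Fact.mk Nat.prime_two
  have hsyl : ∀ z : G, Multi z → a ∈ normalizer (Ix z : Set G) →
      ∃ U : Sylow 2 G, z ∈ (U : Subgroup G) ∧ a ∈ (U : Subgroup G) := by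
    intro z hz haz
    obtain ⟨-, S, -, -, hzS, -⟩ := id hz
    obtain ⟨U, hU⟩ := ((S.isPGroup'.to_le (Ix_le hzS)).to_sup_of_normal_left' ha2
      (zpowers_le.2 haz)).exists_le_sylow
    exact ⟨U, hU (mem_sup_left (self_mem_Ix z)), hU (mem_sup_right (mem_zpowers a))⟩
  obtain ⟨U, hxU, haU⟩ := hsyl x hx hax
  obtain ⟨V, hyV, haV⟩ := hsyl y hy hay
  by_cases hUV : U = V
  · exact h1 x y hx hy V (hUV ▸ hxU) hyV
  · have hma : Multi a := ⟨ha, U, V, hUV, haU, haV⟩
    exact (h1 x a hx hma U hxU haU).trans (h1 a y hma hy V haV hyV)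

variable (R : RG G) (hb : TrivBelow.{u} (Nat.card G)) (h1 : OneBlock G)
include R hb h1

/-- All involutions modulo the 2-core of a Sylow subgroup lie in its intersection. -/
theorem OneBlock.mem_of_sq {x : G} (hx : Multi x) {S : Sylow 2 G} (hS : x ∈ (S : Subgroup G))
    {e : G} (he : e ∈ Ix x) (heD : e ∉ Cfsg.pCore 2 G) (hee : e * e ∈ Cfsg.pCore 2 G)
    {y : G} (hy : y ∈ (S : Subgroup G)) (hyy : y * y ∈ Cfsg.pCore 2 G) : y ∈ Ix x := by
  haveI := Fact.mk Nat.prime_two
  set D := Cfsg.pCore 2 G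
  have hDI : ∀ {z : G}, D ≤ Ix z := fun {z} d hd => mem_Ix.2 fun U _ => PLocal.Cores.pCore_le_sylow U hd
  by_cases hyD : y ∈ D
  · exact hDI hyD
  set π := QuotientGroup.mk' D
  set H := (normalizer (Ix x : Set G)).map π
  have hDN : D ≤ normalizer (Ix x : Set G) := fun d hd => le_normalizer (hDI hd)
  have hmem : ∀ a : G, π a ∈ H → a ∈ normalizer (Ix x : Set G) := fun a ha => by
    rw [← mem_comap, comap_map_eq, QuotientGroup.ker_mk', sup_eq_left.2 hDN] at ha
    exact ha
  have hord : ∀ {a : G}, a * a ∈ D → a ∉ D → orderOf (π a) = 2 := fun {a} h h' =>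
    Involutions.Basic.orderOf_two_iff.2
      ⟨by rw [← map_mul]; exact (QuotientGroup.eq_one_iff _).2 h, fun e => h' ((QuotientGroup.eq_one_iff _).1 e)⟩
  have hH : Cfsg.IsStronglyEmbedded H := by
    refine Involutions.StronglyEmbedded.of_conj ?_ ?_ ?_
    · intro htop
      have hN : (Ix x).Normal := normalizer_eq_top_iff.1 <|
        eq_top_iff.2 fun a _ => hmem a (htop ▸ mem_top _)
      exact hx.1 (PLocal.Cores.le_pCore (S.isPGroup'.to_le (Ix_le hS)) (self_mem_Ix x))
    · have h := H.orderOf_dvd_natCard (x := π e) ⟨e, le_normalizer he, rfl⟩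
      rw [hord hee heD] at h
      exact even_iff_two_dvd.2 h
    · rintro _ ⟨a, ha, rfl⟩ ha2 g hg
      obtain ⟨b, rfl⟩ := QuotientGroup.mk'_surjective D g
      rw [← map_inv, ← map_mul, ← map_mul] at hg
      have hba := hmem _ hg
      have haD : a ∉ D := fun h => by
        rw [show π a = 1 from (QuotientGroup.eq_one_iff _).2 h, orderOf_one] at ha2
        omega
      have haa : a * a ∈ D := (QuotientGroup.eq_one_iff _).1 (by
        rw [← (Involutions.Basic.orderOf_two_iff.1 ha2).1]; rfl)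
      have hp : IsPGroup 2 ↥(zpowers a) := by
        obtain ⟨k, hk⟩ := (S.isPGroup'.to_le (PLocal.Cores.pCore_le_sylow S)) ⟨a * a, haa⟩
        have hk' : a ^ 2 ^ (k + 1) = 1 := by
          rw [pow_succ', pow_mul, pow_two]
          simpa using congrArg Subtype.val hk
        obtain ⟨j, -, hj⟩ := (Nat.dvd_prime_pow Nat.prime_two).1 (orderOf_dvd_of_pow_eq_one hk')
        exact IsPGroup.of_card (n := j) (by rw [Nat.card_zpowers, hj])
      have hnorm : a ∈ normalizer (Ix (b⁻¹ * x * b⁻¹⁻¹) : Set G) := by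
        refine mem_normalizer_iff.2 fun z => ?_
        rw [mem_Ix_conj, mem_Ix_conj, inv_inv]
        have h := mem_normalizer_iff.1 hba (b * z * b⁻¹)
        rw [show b * a * b⁻¹ * (b * z * b⁻¹) * (b * a * b⁻¹)⁻¹ = b * (a * z * a⁻¹) * b⁻¹ by group] at h
        exact h
      have heq := h1.eq_of_normalizes hx (hx.conj b⁻¹) haD hp ha hnorm
      refine ⟨b, mem_normalizer_iff.2 fun z => ?_, rfl⟩
      conv_lhs => rw [heq, mem_Ix_conj, inv_inv]
  obtain ⟨g, hg⟩ := isConj_iff.1
    (Involutions.StronglyEmbedded.isConj_involutions hH (hord hee heD) (hord hyy hyD))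
  obtain ⟨b, rfl⟩ := QuotientGroup.mk'_surjective D g
  rw [← map_inv, ← map_mul, ← map_mul] at hg
  have hd : (b * e * b⁻¹)⁻¹ * y ∈ D := QuotientGroup.eq.1 hg
  have hyx : y ∈ Ix (b * x * b⁻¹) := by
    rw [← mul_inv_cancel_left (b * e * b⁻¹) y]
    refine mul_mem (mem_Ix_conj.2 ?_) (hDI hd)
    simpa [mul_assoc] using he
  obtain ⟨hmy, -⟩ := Ix_eq_of_mem R hb (hx.conj b) hyx hyD
  exact h1 x y hx hmy S hS hy ▸ self_mem_Ix y

/-- The case of one intersection is impossible. -/
theorem OneBlock.not_multi (hF : KindFacts.{u}) {x : G} (hx : Multi x) : False := by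
  haveI := Fact.mk Nat.prime_two
  obtain ⟨-, S, -, -, hS, -⟩ := id hx
  obtain ⟨t, n, i, M, B⟩ := exists_blk hF R hb hx hS
  obtain ⟨e₀, he₀, he₀D, he₀2⟩ := B.exists_inv
  set E := Ix x
  set D := Cfsg.pCore 2 G
  have hsq : ∀ {y : G}, y ∈ (S : Subgroup G) → y * y ∈ D → y ∈ E := fun hy hyy =>
    h1.mem_of_sq R hb hx hS he₀ he₀D he₀2 hy hyy
  have hES : E ≤ (S : Subgroup G) := Ix_le hS
  haveI : IsMulCommutative ↥E := ⟨⟨fun a b => Subtype.ext (B.cent a a.2 b (hES b.2)).eq⟩⟩
  -- squares of `E` times the 2-core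
  let E2 : Subgroup ↥E := (powMonoidHom 2 : ↥E →* ↥E).range ⊔ D.subgroupOf E
  have hfin : ∀ {y : G}, y ∈ (S : Subgroup G) → ∀ hyy : y * y ∈ E, y ∉ E →
      (⟨y * y, hyy⟩ : ↥E) ∉ E2 := by
    intro y hy hyy hyE hmem
    obtain ⟨_, ⟨e, rfl⟩, d, hd, he⟩ := mem_sup.1 hmem
    have he' : (e : G) ^ 2 * d = y * y := congrArg Subtype.val he
    refine hyE ?_
    have h2 : y * (e : G)⁻¹ * (y * (e : G)⁻¹) ∈ D := by
      have hc : Commute y (e : G)⁻¹ := (B.cent e e.2 y hy).inv_left.symm
      rw [← pow_two, hc.mul_pow, pow_two y, ← he', inv_pow, pow_two]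
      have hdc : Commute (d : G) ((e : G) * e)⁻¹ := (mem_center_iff.1 (R.pCore_le_center hd) _).symm
      rw [mul_assoc, hdc.eq, mul_inv_cancel_left]
      exact hd
    rw [← inv_mul_cancel_right y (e : G)]
    exact mul_mem (hsq (mul_mem hy (inv_mem (hES e.2))) h2) e.2
  -- the square of an element of the preimage of the centre
  let Ysq : G → Prop := fun y => y ∈ (S : Subgroup G) ∧ y * y ∈ E ∧ y ∉ E
  let c : (y : G) → y * y ∈ E → ↥E ⧸ E2 := fun y hy => QuotientGroup.mk ⟨y * y, hy⟩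
  have hconst : ∀ {y y' : G} (hy : Ysq y) (hy' : Ysq y'), c y hy.2.1 = c y' hy'.2.1 := by
    intro y y' hy hy'
    obtain ⟨j, hj⟩ := B.trans y hy.1 y' hy'.1 hy.2.1 hy'.2.1 hy.2.2 hy'.2.2
    set a := t ^ j * y * (t ^ j)⁻¹
    set z := a⁻¹ * y'
    have haS : a ∈ (S : Subgroup G) := by
      refine conj_mem_of_smul_eq ?_ hy.1
      clear_value a
      clear hj
      induction j with
      | zero => rw [pow_zero, one_smul]
      | succ j ih => rw [pow_succ, mul_smul, B.t_smul, ih]
    have haa : a * a = y * y := by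
      rw [show a * a = t ^ j * (y * y) * (t ^ j)⁻¹ by simp only [a]; group,
        ((B.t_cent _ hy.2.1).pow_left j).eq, mul_inv_cancel_right]
    have hc : Commute a z := (B.cent z hj a haS).symm
    refine QuotientGroup.eq.2 (mem_sup_left ⟨⟨z, hj⟩, Subtype.ext ?_⟩)
    show z ^ 2 = (y * y)⁻¹ * (y' * y')
    have hy'' : y' = a * z := (mul_inv_cancel_left a y').symm
    rw [hy'', ← haa, ← pow_two (a * z), hc.mul_pow, pow_two a, inv_mul_cancel_left]
  -- products
  have hprod : ∀ {a b : G}, a ∈ (S : Subgroup G) → b ∈ (S : Subgroup G) → b * b ∈ E →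
      ∃ k ∈ E, b * a = k * (a * b) ∧ a * b * (a * b) = k * (a * a * (b * b)) := by
    intro a b ha hb' hbb
    refine ⟨b * a * b⁻¹ * a⁻¹, B.y_comm b hb' hbb a ha, by group, ?_⟩
    set k := b * a * b⁻¹ * a⁻¹
    have hk : k ∈ E := B.y_comm b hb' hbb a ha
    calc a * b * (a * b) = a * (b * a) * b := by group
      _ = a * (k * (a * b)) * b := by rw [show b * a = k * (a * b) by simp only [k]; group]
      _ = (a * k) * (a * (b * b)) := by group
      _ = k * (a * a * (b * b)) := by rw [← (B.cent k hk a ha).eq]; group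
  obtain ⟨y, hy, hone⟩ : ∃ y, ∃ hy : Ysq y, c y hy.2.1 = 1 := by
    rcases (by have := B.two_le; omega : 3 ≤ n ∨ n = 2) with hn | hn
    · -- three independent elements
      obtain ⟨u, hu, v, hv, w, hw, huu, hvv, hww, hne⟩ := B.indep hn
      simp only [List.mem_cons, List.not_mem_nil, or_false] at hne
      obtain ⟨k₁, hk₁, -, e₁⟩ := hprod hu hv hvv
      obtain ⟨k₂, hk₂, hwu, e₂⟩ := hprod hu hw hww
      obtain ⟨k₃, hk₃, hwv, e₃⟩ := hprod hv hw hww
      have e₄ : u * v * w * (u * v * w) = k₁ * k₂ * k₃ * (u * u * (v * v) * (w * w)) := by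
        calc u * v * w * (u * v * w) = u * v * (w * u) * (v * w) := by group
          _ = u * v * (k₂ * (u * w)) * (v * w) := by rw [hwu]
          _ = (u * v * k₂) * u * (w * v) * w := by group
          _ = (k₂ * (u * v)) * u * (k₃ * (v * w)) * w := by
              rw [hwv, (B.cent k₂ hk₂ _ (mul_mem hu hv)).eq]
          _ = k₂ * (u * v * u * k₃) * v * w * w := by group
          _ = k₂ * (k₃ * (u * v * u)) * v * w * w := by
              rw [(B.cent k₃ hk₃ _ (mul_mem (mul_mem hu hv) hu)).eq]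
          _ = k₂ * k₃ * (u * v * (u * v)) * (w * w) := by group
          _ = k₂ * k₃ * k₁ * (u * u * (v * v) * (w * w)) := by rw [e₁]; group
          _ = k₁ * k₂ * k₃ * (u * u * (v * v) * (w * w)) := by
              rw [← (B.cent k₁ hk₁ (k₂ * k₃) (hES (mul_mem hk₂ hk₃))).eq, mul_assoc k₁ k₂ k₃]
      have h12 : u * v * (u * v) ∈ E := e₁ ▸ mul_mem hk₁ (mul_mem huu hvv)
      have h13 : u * w * (u * w) ∈ E := e₂ ▸ mul_mem hk₂ (mul_mem huu hww)
      have h23 : v * w * (v * w) ∈ E := e₃ ▸ mul_mem hk₃ (mul_mem hvv hww)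
      have h123 : u * v * w * (u * v * w) ∈ E :=
        e₄ ▸ mul_mem (mul_mem (mul_mem hk₁ hk₂) hk₃) (mul_mem (mul_mem huu hvv) hww)
      have Yu : Ysq u := ⟨hu, huu, hne u (Or.inl rfl)⟩
      have Yv : Ysq v := ⟨hv, hvv, hne v (Or.inr (Or.inl rfl))⟩
      have Yw : Ysq w := ⟨hw, hww, hne w (Or.inr (Or.inr (Or.inl rfl)))⟩
      have Y12 : Ysq (u * v) := ⟨mul_mem hu hv, h12, hne _ (Or.inr (Or.inr (Or.inr (Or.inl rfl))))⟩
      have Y13 : Ysq (u * w) :=
        ⟨mul_mem hu hw, h13, hne _ (Or.inr (Or.inr (Or.inr (Or.inr (Or.inl rfl)))))⟩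
      have Y23 : Ysq (v * w) :=
        ⟨mul_mem hv hw, h23, hne _ (Or.inr (Or.inr (Or.inr (Or.inr (Or.inr (Or.inl rfl))))))⟩
      have Y123 : Ysq (u * v * w) := ⟨mul_mem (mul_mem hu hv) hw, h123,
        hne _ (Or.inr (Or.inr (Or.inr (Or.inr (Or.inr (Or.inr rfl))))))⟩
      have E4 : c _ h123 * (c _ huu * c _ hvv * c _ hww) = c _ h12 * c _ h13 * c _ h23 := by
        let K₁ : ↥E := ⟨k₁, hk₁⟩; let K₂ : ↥E := ⟨k₂, hk₂⟩; let K₃ : ↥E := ⟨k₃, hk₃⟩
        let U : ↥E := ⟨u * u, huu⟩; let V : ↥E := ⟨v * v, hvv⟩; let W : ↥E := ⟨w * w, hww⟩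
        have f1 : (⟨_, h12⟩ : ↥E) = K₁ * (U * V) := Subtype.ext e₁
        have f2 : (⟨_, h13⟩ : ↥E) = K₂ * (U * W) := Subtype.ext e₂
        have f3 : (⟨_, h23⟩ : ↥E) = K₃ * (V * W) := Subtype.ext e₃
        have f4 : (⟨_, h123⟩ : ↥E) = K₁ * K₂ * K₃ * (U * V * W) := Subtype.ext e₄
        simp only [c, ← QuotientGroup.mk_mul, f1, f2, f3, f4]
        refine congrArg QuotientGroup.mk ?_
        show K₁ * K₂ * K₃ * (U * V * W) * (U * V * W) = K₁ * (U * V) * (K₂ * (U * W)) * (K₃ * (V * W))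
        simp only [mul_comm, mul_left_comm, mul_assoc]
      refine ⟨u, Yu, ?_⟩
      rw [hconst Y12 Yu, hconst Y13 Yu, hconst Y23 Yu, hconst Y123 Yu, hconst Yv Yu, hconst Yw Yu] at E4
      exact mul_eq_right.1 E4
    obtain ⟨u, hu, v, hv, huu, hvv, huE, hvE, huvE, hcases⟩ := B.two_cases hn
    rcases (by rcases B.i_mem with h | h | h <;> omega : i = 1 ∨ 2 ≤ i) with hi | hi
    · -- the commutator of two generators is fixed by the normaliser
      obtain ⟨k, hk, hvu, e⟩ := hprod hu hv hvv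
      have hkk : k * k = 1 := by
        have h := (B.cent _ hvv u hu).eq
        rw [show v * v * u = v * (v * u) by group, hvu, show v * (k * (u * v)) = v * k * (u * v) by group,
          ← (B.cent k hk v hv).eq, show k * v * (u * v) = k * (v * u) * v by group, hvu,
          show k * (k * (u * v)) * v = k * k * (u * (v * v)) by group] at h
        exact mul_eq_right.1 h
      have hkS : k ∈ (S : Subgroup G) := hES hk
      let P := ↥(S : Subgroup G)
      let kP : P := ⟨k, hkS⟩
      haveI : (zpowers kP).Normal := ⟨fun z hz g => by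
        obtain ⟨m, rfl⟩ := mem_zpowers_iff.1 hz
        have hc : Commute g kP := Subtype.ext (B.cent k hk g g.2).symm.eq
        rw [(hc.zpow_right m).eq, mul_inv_cancel_right]
        exact zpow_mem (mem_zpowers kP) m⟩
      let ρ := QuotientGroup.mk' (zpowers kP)
      let uP : P := ⟨u, hu⟩
      let vP : P := ⟨v, hv⟩
      have huv : Commute (ρ vP) (ρ uP) := by
        show ρ vP * ρ uP = ρ uP * ρ vP
        rw [← map_mul, show vP * uP = kP * (uP * vP) from Subtype.ext hvu, map_mul,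
          show ρ kP = 1 from (QuotientGroup.eq_one_iff _).2 (mem_zpowers _), one_mul, map_mul]
      have hgen : ∀ s : P, ∃ a ∈ ({1, uP, vP, uP * vP} : Set P), ∃ z ∈ E, (s : G) = (a : G) * z := by
        intro s
        rcases hcases s s.2 (B.one_sq hi s s.2) with h | h | h | h
        · exact ⟨1, Or.inl rfl, s, h, (one_mul _).symm⟩
        · exact ⟨uP, Or.inr (Or.inl rfl), _, h, (mul_inv_cancel_left u (s : G)).symm⟩
        · exact ⟨vP, Or.inr (Or.inr (Or.inl rfl)), _, h, (mul_inv_cancel_left v (s : G)).symm⟩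
        · exact ⟨uP * vP, Or.inr (Or.inr (Or.inr rfl)), _, h, (mul_inv_cancel_left (u * v) (s : G)).symm⟩
      have hρ : ∀ s : P, Commute (ρ s) (ρ uP) ∧ Commute (ρ s) (ρ vP) := by
        intro s
        obtain ⟨a, ha, z, hz, hs⟩ := hgen s
        obtain rfl : s = a * ⟨z, hES hz⟩ := Subtype.ext hs
        have hzc : ∀ r : P, Commute (ρ ⟨z, hES hz⟩) (ρ r) := fun r =>
          (show Commute (⟨z, hES hz⟩ : P) r from Subtype.ext (B.cent z hz r r.2).eq).map ρ
        rw [map_mul]
        rcases ha with rfl | rfl | rfl | rfl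
        · rw [map_one, one_mul]; exact ⟨hzc _, hzc _⟩
        · exact ⟨(Commute.refl _).mul_left (hzc _), huv.symm.mul_left (hzc _)⟩
        · exact ⟨huv.mul_left (hzc _), (Commute.refl _).mul_left (hzc _)⟩
        · rw [map_mul]
          exact ⟨((Commute.refl _).mul_left huv).mul_left (hzc _),
            (huv.symm.mul_left (Commute.refl _)).mul_left (hzc _)⟩
      have hcomm : ∀ s r : P, Commute (ρ s) (ρ r) := by
        intro s r
        obtain ⟨a, ha, z, hz, hr⟩ := hgen r
        obtain rfl : r = a * ⟨z, hES hz⟩ := Subtype.ext hr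
        have hzc : Commute (ρ s) (ρ ⟨z, hES hz⟩) :=
          ((show Commute (⟨z, hES hz⟩ : P) s from Subtype.ext (B.cent z hz s s.2).eq).map ρ).symm
        rw [map_mul]
        rcases ha with rfl | rfl | rfl | rfl
        · rw [map_one, one_mul]; exact hzc
        · exact (hρ s).1.mul_right hzc
        · exact (hρ s).2.mul_right hzc
        · rw [map_mul]; exact ((hρ s).1.mul_right (hρ s).2).mul_right hzc
      have hkD : k ∈ D := by
        by_cases hk1 : k = 1
        · rw [hk1]; exact one_mem _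
        show k ∈ Cfsg.pCore 2 G
        rw [← R.center_eq]
        refine R.ci.mem_center_of_fixed R.odd hkS (Involutions.Basic.orderOf_two_iff.2 ⟨hkk, hk1⟩) fun g hg => ?_
        have hgS : ∀ s : P, g * (s : G) * g⁻¹ ∈ (S : Subgroup G) := fun s => (mem_normalizer_iff.1 hg _).1 s.2
        set a : P := ⟨_, hgS uP⟩
        set b : P := ⟨_, hgS vP⟩
        have h0 : ρ (b * a * b⁻¹ * a⁻¹) = 1 := by
          rw [map_mul, map_mul, map_mul, map_inv, map_inv, (hcomm b a).eq, mul_inv_cancel_right,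
            mul_inv_cancel]
        obtain ⟨m, hm⟩ := mem_zpowers_iff.1 ((QuotientGroup.eq_one_iff _).1 h0)
        have hm' : k ^ m = g * k * g⁻¹ := by
          have h := congrArg Subtype.val hm
          rw [coe_zpow] at h
          rw [h]
          show g * v * g⁻¹ * (g * u * g⁻¹) * (g * v * g⁻¹)⁻¹ * (g * u * g⁻¹)⁻¹ = g * k * g⁻¹
          rw [show k = v * u * (u * v)⁻¹ by rw [hvu, mul_inv_cancel_right]]
          group
        rcases Int.even_or_odd m with ⟨r, rfl⟩ | ⟨r, rfl⟩
        · rw [zpow_add, ← Commute.mul_zpow (Commute.refl k), hkk, one_zpow, eq_comm, mul_inv_eq_one,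
            mul_eq_left] at hm'
          exact absurd hm' hk1
        · rw [zpow_add, zpow_one, two_mul, zpow_add, ← Commute.mul_zpow (Commute.refl k), hkk, one_zpow,
            one_mul] at hm'
          exact hm'.symm
      have hww : u * v * (u * v) ∈ E := e ▸ mul_mem hk (mul_mem huu hvv)
      refine ⟨u, ⟨hu, huu, huE⟩, ?_⟩
      have E3 : c _ hww = c _ huu * c _ hvv := by
        refine (QuotientGroup.eq.2 (mem_sup_right ?_)).symm
        rw [mem_subgroupOf]
        show (u * u * (v * v))⁻¹ * (u * v * (u * v)) ∈ D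
        rw [e, ← mul_assoc, ← (B.cent k hk _ (inv_mem (mul_mem (hES huu) (hES hvv)))).eq, mul_assoc,
          inv_mul_cancel, mul_one]
        exact hkD
      rw [hconst ⟨mul_mem hu hv, hww, huvE⟩ ⟨hu, huu, huE⟩, hconst ⟨hv, hvv, hvE⟩ ⟨hu, huu, huE⟩] at E3
      exact left_eq_mul.1 E3
    · -- a product with a square
      obtain ⟨s, hs, hss⟩ := B.exists_nonsq hi
      have hs4 := B.q4 s hs
      have hsS : s * s ∈ (S : Subgroup G) := mul_mem hs hs
      obtain ⟨y, hy, hyy, hyE, hys⟩ : ∃ y ∈ (S : Subgroup G), y * y ∈ E ∧ y ∉ E ∧ y * (s * s) ∉ E := by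
        by_contra! h
        have h1 := h u hu huu huE
        have h2 := h v hv hvv hvE
        refine huvE ?_
        have h3 := mul_mem h1 (inv_mem h2)
        rw [show u * (s * s) * (v * (s * s))⁻¹ = u * v⁻¹ by group] at h3
        rw [show u * v = u * v⁻¹ * (v * v) by group]
        exact mul_mem h3 hvv
      -- the commutator with `s` lies in `E`
      set k := y * s * y⁻¹ * s⁻¹ with hkdef
      have hk : k ∈ E := B.y_comm y hy hyy s hs
      have hys2 : y * (s * s) = k * k * (s * s * y) := by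
        calc y * (s * s) = k * s * y * s := by rw [hkdef]; group
          _ = k * s * (k * s * y) := by rw [hkdef]; group
          _ = k * (s * k) * (s * y) := by group
          _ = k * (k * s) * (s * y) := by rw [(B.cent k hk s hs).eq]
          _ = k * k * (s * s * y) := by group
      have hww : y * (s * s) * (y * (s * s)) = (k * k)⁻¹ * (y * y * (s * s * (s * s))) := by
        have h : s * s * y = (k * k)⁻¹ * (y * (s * s)) := by rw [hys2, inv_mul_cancel_left]
        calc y * (s * s) * (y * (s * s)) = y * (s * s * y) * (s * s) := by group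
          _ = y * ((k * k)⁻¹ * (y * (s * s))) * (s * s) := by rw [h]
          _ = (y * (k * k)⁻¹) * (y * (s * s * (s * s))) := by group
          _ = (k * k)⁻¹ * (y * y * (s * s * (s * s))) := by
              rw [← ((B.cent _ (mul_mem hk hk) y hy).inv_left).eq]; group
      have hwE : y * (s * s) * (y * (s * s)) ∈ E :=
        hww ▸ mul_mem (inv_mem (mul_mem hk hk)) (mul_mem hyy hs4)
      refine ⟨y, ⟨hy, hyy, hyE⟩, ?_⟩
      have E3 : c _ hwE = c _ hyy * c _ hs4 := by
        refine (QuotientGroup.eq.2 (mem_sup_left (MonoidHom.mem_range.2 ⟨(⟨k, hk⟩ : ↥E)⁻¹, Subtype.ext ?_⟩))).symm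
        show (k⁻¹) ^ 2 = (y * y * (s * s * (s * s)))⁻¹ * (y * (s * s) * (y * (s * s)))
        rw [hww, ← mul_assoc, ← (B.cent _ (inv_mem (mul_mem hk hk)) _ (inv_mem (hES (mul_mem hyy hs4)))).eq,
          mul_assoc, inv_mul_cancel, mul_one, pow_two, ← mul_inv_rev]
      rw [hconst ⟨mul_mem hy hsS, hwE, hys⟩ ⟨hy, hyy, hyE⟩, hconst ⟨hsS, hs4, hss⟩ ⟨hy, hyy, hyE⟩] at E3
      exact left_eq_mul.1 E3
  exact hfin hy.1 hy.2.1 hy.2.2 ((QuotientGroup.eq_one_iff _).1 hone)

end Cfsg.Agent.CISylow
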