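import Cfsg.Agent.Lib.CISylow.Fixed
import Cfsg.Agent.Lib.CyclicSylowInter.KindFacts
import Cfsg.Agent.Lib.CyclicSylowInter.Congr
import Cfsg.Agent.Lib.CTwoAbelian.Covers
import Cfsg.Agent.S1258
import Cfsg.Agent.S0283
import Cfsg.Agent.S1162
import Cfsg.Agent.S2089
import Cfsg.Agent.S2111
import Cfsg.Agent.S2112

/-!
# Central extensions of the groups with strongly embedded subgroup, for the outcomes
-/

set_option autoImplicit false
set_option linter.style.haveILetI false
set_option linter.unusedSectionVars false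

namespace Cfsg.Agent.CISylow

open Subgroup
open Cfsg.Agent.CyclicSylowInter (KindTI TIData)

universe u

section Sylow

variable {L : Type*} [Group L] [Finite L]

/-- The elements of square one of a Sylow subgroup of the model are `q` in number. -/
theorem ncard_sq_one {S : Sylow 2 L} {n i : ℕ} (d : TIData S n i) :
    {x : L | x ∈ (S : Subgroup L) ∧ x * x = 1}.ncard = 2 ^ n := by
  have h : {x : L | x ∈ (S : Subgroup L) ∧ x * x = 1} =
      insert 1 {x : L | x ∈ (S : Subgroup L) ∧ orderOf x = 2} := by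
    ext x
    rw [Set.mem_insert_iff, Set.mem_ofPred_eq, Set.mem_ofPred_eq, CyclicSylowInter.orderOf_two_iff]
    constructor
    · rintro ⟨hx, h2⟩
      exact (em (x = 1)).imp id fun h1 => ⟨hx, h2, h1⟩
    · rintro (rfl | ⟨hx, h2, -⟩)
      exacts [⟨one_mem _, one_mul 1⟩, ⟨hx, h2⟩]
  rw [h, Set.ncard_insert_of_notMem (by simp) (Set.toFinite _), d.ncard_inv]
  have := Nat.two_pow_pos n
  omega

/-- For `i = 1` the Sylow subgroup is abelian. -/
theorem comm_of_one {S : Sylow 2 L} {n : ℕ} (d : TIData S n 1) :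
    ∀ x ∈ (S : Subgroup L), ∀ y ∈ (S : Subgroup L), Commute x y := by
  have h : {x : L | x ∈ (S : Subgroup L) ∧ x * x = 1} = ((S : Subgroup L) : Set L) := by
    refine Set.eq_of_subset_of_ncard_le (fun x hx => hx.1) ?_ (Set.toFinite _)
    rw [ncard_sq_one d, ← Nat.card_coe_set_eq]
    exact le_of_eq (d.card_sylow.trans (pow_one _))
  intro x hx y hy
  by_cases h1 : x = 1
  · exact h1 ▸ Commute.one_left y
  · exact d.inv_central x hx (CyclicSylowInter.orderOf_two_iff.2 ⟨(h.ge hx).2, h1⟩) y hy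

/-- For `i ≠ 1` two elements do not generate modulo the centre. -/
theorem not_twoGen {S : Sylow 2 L} {n i : ℕ} (d : TIData S n i) (hi : i ≠ 1)
    (hg : TwoGen (S : Subgroup L)) : False := by
  classical
  obtain ⟨a, ha, b, hb, hab⟩ := hg
  set Z : Set L := {x : L | x ∈ (S : Subgroup L) ∧ x * x = 1}
  have hZ : ∀ x, x ∈ Z ↔ x ∈ (S : Subgroup L) ∧ ∀ s ∈ (S : Subgroup L), Commute x s := by
    refine fun x => ⟨fun hx => ⟨hx.1, ?_⟩, fun hx => ⟨hx.1, d.center_sq x hx.1 hx.2⟩⟩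
    by_cases h1 : x = 1
    · exact fun s _ => h1 ▸ Commute.one_left s
    · exact d.inv_central x hx.1 (CyclicSylowInter.orderOf_two_iff.2 ⟨hx.2, h1⟩)
  have hmul : ∀ x y, x ∈ Z → y ∈ Z → x * y ∈ Z := fun x y hx hy => (hZ _).2
    ⟨mul_mem hx.1 hy.1, fun s hs => (((hZ x).1 hx).2 s hs).mul_left (((hZ y).1 hy).2 s hs)⟩
  have hsq : ∀ x ∈ (S : Subgroup L), ∀ j : ℕ, (x * x) ^ j ∈ Z := by
    intro x hx j
    induction j with
    | zero => rw [pow_zero]; exact ⟨one_mem _, one_mul 1⟩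
    | succ j ih => rw [pow_succ]; exact hmul _ _ ih ⟨mul_mem hx hx, d.sq_sq x hx⟩
  have key : ∀ x : ↥(S : Subgroup L), ∃ p : Fin 2 × Fin 2 × Z,
      a ^ (p.1 : ℕ) * b ^ (p.2.1 : ℕ) * (p.2.2 : L) = x := by
    intro x
    obtain ⟨j, k, z, hz, hzc, e⟩ := hab x x.2
    have hpow : ∀ (y : L) (m : ℕ), y ^ m = y ^ (m % 2) * (y * y) ^ (m / 2) := fun y m => by
      rw [← pow_two, ← pow_mul, ← pow_add, Nat.mod_add_div]
    have hza : (a * a) ^ (j / 2) ∈ Z := hsq a ha _
    have hzb : (b * b) ^ (k / 2) ∈ Z := hsq b hb _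
    refine ⟨⟨⟨j % 2, Nat.mod_lt _ two_pos⟩, ⟨k % 2, Nat.mod_lt _ two_pos⟩,
      ⟨(a * a) ^ (j / 2) * ((b * b) ^ (k / 2) * z),
        hmul _ _ hza (hmul _ _ hzb ((hZ z).2 ⟨hz, hzc⟩))⟩⟩, ?_⟩
    show a ^ (j % 2) * b ^ (k % 2) * ((a * a) ^ (j / 2) * ((b * b) ^ (k / 2) * z)) = (x : L)
    rw [e, hpow a j, hpow b k]
    rw [mul_assoc (a ^ (j % 2)) ((a * a) ^ (j / 2)),
      ← mul_assoc ((a * a) ^ (j / 2)) (b ^ (k % 2)),
      (((hZ _).1 hza).2 _ (pow_mem hb (k % 2))).eq]
    group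
  choose f hf using key
  have hle : Nat.card ↥(S : Subgroup L) ≤ Nat.card (Fin 2 × Fin 2 × Z) :=
    Nat.card_le_card_of_injective f fun x y e => Subtype.ext (by rw [← hf x, ← hf y, e])
  rw [d.card_sylow, Nat.card_prod, Nat.card_prod, Nat.card_fin, Nat.card_coe_set_eq,
    show Z.ncard = 2 ^ n from ncard_sq_one d] at hle
  have h2 := d.two_le
  rcases d.i_mem with rfl | rfl | rfl
  · exact hi rfl
  · obtain ⟨r, rfl⟩ := d.suzuki_odd rfl
    have : 2 ^ 3 ≤ 2 ^ (2 * r + 1) := Nat.pow_le_pow_right two_pos (by omega)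
    nlinarith
  · have h4 : 2 ^ 2 ≤ 2 ^ n := Nat.pow_le_pow_right two_pos h2
    have h5 : 2 ^ 2 * 2 ^ 2 * 2 ^ n ≤ (2 ^ n) ^ 3 := by
      rw [show (2 ^ n) ^ 3 = 2 ^ n * 2 ^ n * 2 ^ n by ring]
      exact Nat.mul_le_mul_right _ (Nat.mul_le_mul h4 h4)
    have := Nat.two_pow_pos n
    omega

end Sylow

/-- The three families are nonabelian simple groups. -/
theorem kindTI_simple {Q : Type u} [Group Q] [Finite Q] (h : KindTI Q) :
    IsSimpleGroup Q ∧ ¬ IsMulCommutative Q := by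
  haveI := Fact.mk Nat.prime_two
  refine ⟨?_, fun hcm => ?_⟩
  · rcases h with ⟨n, F, _, _, hn, hF, ⟨e⟩⟩ | ⟨m, F, _, _, hm, hF, ⟨e⟩⟩ | ⟨n, F, _, _, hn, hF, ⟨e⟩⟩
    · haveI := Matrix.ProjectiveSpecialLinearGroup.rank_two_simple (F := F) (by
        rw [Nat.card_eq_fintype_card, hF]
        exact le_trans (by norm_num) (Nat.pow_le_pow_right two_pos hn))
      exact CyclicSylowInter.isSimpleGroup_congr e.symm
    · haveI := Cfsg.Agent.S1162.result hm hF
      exact CyclicSylowInter.isSimpleGroup_congr e.symm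
    · haveI := Cfsg.Agent.S0283.result (F := F) (q := 2 ^ n)
        (by rw [hF, ← pow_mul, mul_comm n, pow_mul]; norm_num) 3 le_rfl (by
          rintro ⟨-, h⟩
          have := Nat.pow_le_pow_right two_pos hn
          omega)
      exact CyclicSylowInter.isSimpleGroup_congr e.symm
  · obtain ⟨n, i, d⟩ := (CyclicSylowInter.kindTI_facts h).2.2 (default : Sylow 2 Q)
    obtain ⟨T, hT⟩ := d.exists_other
    obtain ⟨g, hg⟩ := MulAction.exists_smul_eq Q (default : Sylow 2 Q) T
    refine hT (hg.symm.trans (Sylow.smul_eq_iff_mem_normalizer.2 ?_))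
    refine mem_normalizer_iff.2 fun x => ?_
    rw [hcm.is_comm.comm g x, mul_inv_cancel_right]

section Central

variable {K : Type*} [Group K] [Finite K]

/-- The derived group of a central extension of a nonabelian simple group. -/
theorem derived_facts (hs : IsSimpleGroup (K ⧸ center K)) (hna : ¬ IsMulCommutative (K ⧸ center K)) :
    commutator K ⊔ center K = ⊤ ∧ Cfsg.IsQuasisimple ↥(commutator K) ∧
      center ↥(commutator K) = (center K).subgroupOf (commutator K) ∧
      Nonempty (↥(commutator K) ⧸ center ↥(commutator K) ≃* K ⧸ center K) := by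
  obtain ⟨hsup, hq⟩ := S1258.result hs hna
  have hcen : center ↥(commutator K) = (center K).subgroupOf (commutator K) := by
    refine le_antisymm (fun z hz => ?_) fun z hz => ?_
    · refine mem_subgroupOf.2 (mem_center_iff.2 fun x => ?_)
      obtain ⟨l, hl, c, hc, rfl⟩ :=
        mem_sup_of_normal_right.mp (hsup ▸ mem_top x : x ∈ commutator K ⊔ center K)
      have h1 : Commute l (z : K) := congrArg Subtype.val (mem_center_iff.1 hz ⟨l, hl⟩)
      exact (h1.mul_left (mem_center_iff.1 hc (z : K)).symm).eq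
    · exact mem_center_iff.2 fun x => Subtype.ext (mem_center_iff.1 (mem_subgroupOf.1 hz) (x : K))
  refine ⟨hsup, hq, hcen, ?_⟩
  let f : ↥(commutator K) →* K ⧸ center K := (QuotientGroup.mk' (center K)).comp (commutator K).subtype
  have hf : Function.Surjective f := by
    intro q
    obtain ⟨x, rfl⟩ := QuotientGroup.mk'_surjective (center K) q
    obtain ⟨l, hl, c, hc, rfl⟩ :=
      mem_sup_of_normal_right.mp (hsup ▸ mem_top x : x ∈ commutator K ⊔ center K)
    exact ⟨⟨l, hl⟩, QuotientGroup.eq.2 (by simpa using hc)⟩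
  have hk : f.ker = center ↥(commutator K) := by
    rw [hcen]
    ext x
    rw [MonoidHom.mem_ker, mem_subgroupOf]
    exact QuotientGroup.eq_one_iff _
  exact ⟨(QuotientGroup.quotientMulEquivOfEq hk.symm).trans (QuotientGroup.quotientKerEquivOfSurjective f hf)⟩

/-- A 2-subgroup is abelian when the derived group meets the centre trivially and the central quotient
has abelian Sylow subgroups. -/
theorem comm_of_center_bot (hs : IsSimpleGroup (K ⧸ center K)) (hna : ¬ IsMulCommutative (K ⧸ center K))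
    (hQ : ∀ T : Sylow 2 (K ⧸ center K), ∀ x ∈ (T : Subgroup (K ⧸ center K)),
      ∀ y ∈ (T : Subgroup (K ⧸ center K)), Commute x y)
    (hb : center ↥(commutator K) = ⊥) {P : Subgroup K} (hP : IsPGroup 2 ↥P) :
    ∀ x ∈ P, ∀ y ∈ P, Commute x y := by
  intro x hx y hy
  obtain ⟨T, hT⟩ := (hP.map (QuotientGroup.mk' (center K))).exists_le_sylow
  have h := (hQ T _ (hT (mem_map_of_mem _ hx)) _ (hT (mem_map_of_mem _ hy))).eq
  have hmem : x * y * x⁻¹ * y⁻¹ ∈ center K := by
    rw [← QuotientGroup.eq_one_iff (N := center K)]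
    show QuotientGroup.mk' (center K) (x * y * x⁻¹ * y⁻¹) = 1
    rw [map_mul, map_mul, map_mul, h, map_inv, map_inv, mul_inv_cancel_right, mul_inv_cancel]
  have hc : x * y * x⁻¹ * y⁻¹ ∈ commutator K := commutator_mem_commutator (mem_top x) (mem_top y)
  have h1 : (⟨_, hc⟩ : ↥(commutator K)) ∈ center ↥(commutator K) := by
    rw [(derived_facts hs hna).2.2.1]; exact hmem
  rw [hb, mem_bot] at h1
  exact mul_inv_eq_iff_eq_mul.1 (mul_inv_eq_one.1 (congrArg Subtype.val h1))

end Central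

section Cover

variable {L : Type*} [Group L] [Finite L]

/-- The order of a preimage under an isomorphism. -/
theorem card_comap_equiv {A B : Type*} [Group A] [Group B] (e : A ≃* B) (H : Subgroup B) :
    Nat.card ↥(H.comap e.toMonoidHom) = Nat.card ↥H :=
  Nat.card_congr (e.toEquiv.subtypeEquiv fun _ => Iff.rfl)

/-- The centre of a quasisimple cover divides the multiplier. -/
theorem card_center_dvd {Q : Type} [Group Q] {A : Type} [CommGroup A] [Finite A]
    (hA : Cfsg.HasSchurMultiplier Q A) (hq : Cfsg.IsQuasisimple L) (e : L ⧸ center L ≃* Q) :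
    Nat.card (center L) ∣ Nat.card A := by
  obtain ⟨K', _, _, ⟨eK⟩⟩ := Lib.CTwoAbelian.exists_small L
  obtain ⟨σ, hσ, hker⟩ := Lib.CTwoAbelian.stem_of_quotient hq.1.commutator_eq_top eK e
  obtain ⟨π, hπ⟩ := hA.2 K' σ hσ
  have hc : Nat.card σ.ker = Nat.card (center L) := by rw [hker, card_comap_equiv]
  exact hc ▸ Subgroup.card_dvd_of_surjective π hπ

/-- A cover with trivial centre is the group. -/
theorem equiv_of_center_bot {Q : Type*} [Group Q] (h : center L = ⊥) (e : L ⧸ center L ≃* Q) :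
    Nonempty (L ≃* Q) :=
  ⟨(QuotientGroup.quotientBot.symm.trans (QuotientGroup.quotientMulEquivOfEq h.symm)).trans e⟩

/-- A quasisimple cover of `PSU₃(2ⁿ)` is `PSU₃` or `SU₃`, with centre of odd order. -/
theorem psu_cover {F : Type} [Field F] [Fintype F] {n : ℕ} (hn : 2 ≤ n) (hF : Fintype.card F = 4 ^ n)
    (hq : Cfsg.IsQuasisimple L) (e : L ⧸ center L ≃* Cfsg.PSU 3 F (2 ^ n)) :
    Odd (Nat.card (center L)) ∧
      (Nonempty (L ≃* Cfsg.PSU 3 F (2 ^ n)) ∨ Nonempty (L ≃* ↥(Cfsg.SU 3 F (2 ^ n)))) := by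
  have hF2 : Fintype.card F = (2 ^ n) ^ 2 := by rw [hF, ← pow_mul, mul_comm n, pow_mul]; norm_num
  have h3 : ¬ (3 = 3 ∧ 2 ^ n = 2) := by
    rintro ⟨-, h⟩
    have := Nat.pow_le_pow_right two_pos hn
    omega
  have hm := Cfsg.Agent.S2089.result (F := F) 3 (2 ^ n) hF2 le_rfl h3 (by simp)
  haveI : NeZero (Nat.gcd 3 (2 ^ n + 1)) := ⟨(Nat.gcd_pos_of_pos_left _ (by norm_num)).ne'⟩
  have hdvd := card_center_dvd hm hq e
  rw [Nat.card_congr Multiplicative.toAdd, Nat.card_zmod] at hdvd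
  rcases (Nat.dvd_prime Nat.prime_three).1 (hdvd.trans (Nat.gcd_dvd_left 3 _)) with h | h
  · exact ⟨h ▸ odd_one, Or.inl (equiv_of_center_bot (eq_bot_of_card_eq _ h) e)⟩
  refine ⟨h ▸ by decide, Or.inr ?_⟩
  have hg : Nat.gcd 3 (2 ^ n + 1) = 3 :=
    ((Nat.dvd_prime Nat.prime_three).1 (Nat.gcd_dvd_left 3 _)).resolve_left fun h1 => by
      rw [h1, h] at hdvd; omega
  rw [hg] at hm
  obtain ⟨K', _, _, ⟨eK⟩⟩ := Lib.CTwoAbelian.exists_small L
  obtain ⟨σ, hσ, hker⟩ := Lib.CTwoAbelian.stem_of_quotient hq.1.commutator_eq_top eK e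
  set σ₂ := QuotientGroup.mk' (center (Cfsg.SU 3 F (2 ^ n)))
  have hperf := Classical.Unitary.commutator_SU_eq_top (F := F) hF2 (le_refl 3) h3
  have hσ₂ : Cfsg.IsStemExtension σ₂ :=
    ⟨QuotientGroup.mk'_surjective _, (QuotientGroup.ker_mk' _).le, hperf ▸ le_top⟩
  have hcard₂ : Nat.card σ₂.ker = 3 := by
    rw [QuotientGroup.ker_mk', Classical.Unitary.natCard_center hF2 (by norm_num), hg]
  have hcard : Nat.card σ.ker = 3 := by
    rw [hker, card_comap_equiv, h]
  have hcop : Nat.Coprime (Nat.card (Abelianization (Cfsg.PSU 3 F (2 ^ n))))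
      (Nat.card (Multiplicative (ZMod 3))) := by
    have hp : commutator (Cfsg.PSU 3 F (2 ^ n)) = ⊤ := by
      rw [_root_.commutator_def, ← map_top_of_surjective σ₂ (QuotientGroup.mk'_surjective _),
        ← map_commutator, ← _root_.commutator_def, hperf]
    haveI : Subsingleton (Abelianization (Cfsg.PSU 3 F (2 ^ n))) := QuotientGroup.subsingleton_iff.2 hp
    rw [Nat.card_of_subsingleton (1 : Abelianization (Cfsg.PSU 3 F (2 ^ n)))]
    exact Nat.coprime_one_left _
  haveI := Fact.mk Nat.prime_three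
  obtain ⟨e', -⟩ := (Cfsg.Agent.S3974.result hm).2 hcop K' (Cfsg.SU 3 F (2 ^ n)) σ σ₂ hσ hσ₂
    ⟨mulEquivOfPrimeCardEq (p := 3) hcard (by simp)⟩ ⟨mulEquivOfPrimeCardEq (p := 3) hcard₂ (by simp)⟩
  exact ⟨eK.symm.trans e'⟩

end Cover

end Cfsg.Agent.CISylow
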