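import Cfsg.Agent.Lib.CISylow.OutcomeBase
import Cfsg.Agent.Lib.Cores.Basic
import Cfsg.Prelude.Def_TwoFusion

/-!
# The outcomes for groups with central Sylow 2-intersections and nonabelian Sylow 2-subgroups

`Top G` is generated by the Sylow 2-subgroups of `G ⧸ O(G)`; its central quotient is one of the groups
with strongly embedded subgroup.
-/

set_option autoImplicit false
set_option linter.style.haveILetI false
set_option linter.unusedSectionVars false

namespace Cfsg.Agent.CISylow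

open Subgroup
open Cfsg.Agent.CyclicSylowInter (KindTI TIData)

universe u

variable {G : Type u} [Group G]

/-- The subgroup generated by the 2-elements, modulo the core. -/
abbrev Top (G : Type u) [Group G] : Subgroup (G ⧸ Cfsg.oddCore G) := O2' (G ⧸ Cfsg.oddCore G)

/-- The outcome with `SL(2, 5)`. -/
def AltFive (G : Type u) [Group G] : Prop :=
  ∃ (N M : Subgroup G) (_ : N.Normal) (_ : M.Normal) (_ : (N.subgroupOf M).Normal), N < M ∧
    Odd (Nat.card ↥N) ∧ Odd M.index ∧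
    ∃ A L : Subgroup (↥M ⧸ N.subgroupOf M), IsMulCommutative ↥A ∧ IsPGroup 2 ↥A ∧
      Nonempty (↥L ≃* Matrix.SpecialLinearGroup (Fin 2) (ZMod 5)) ∧ (∀ a ∈ A, ∀ l ∈ L, a * l = l * a) ∧
      A ⊔ L = ⊤

/-- The outcome with Suzuki and unitary groups. -/
def AltTI (G : Type u) [Group G] : Prop :=
  ∃ (M : Subgroup G), M.Normal ∧ Odd M.index ∧ ∃ A L : Subgroup G, IsMulCommutative ↥A ∧ IsPGroup 2 ↥A ∧
    ((Cfsg.IsInternalDirectProduct A L M ∧
        ((∃ (m : ℕ) (F : Type) (_ : Field F) (_ : Fintype F), 1 ≤ m ∧ Fintype.card F = 2 ^ (2 * m + 1) ∧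
            Nonempty (↥L ≃* ↥(Cfsg.Lie.Sz F (2 ^ (m + 1))))) ∨
          (∃ (n : ℕ) (F : Type) (_ : Field F) (_ : Fintype F), 2 ≤ n ∧ Fintype.card F = 4 ^ n ∧
            (Nonempty (↥L ≃* Cfsg.PSU 3 F (2 ^ n)) ∨ Nonempty (↥L ≃* ↥(Cfsg.SU 3 F (2 ^ n))))))) ∨
      (A ≤ M ∧ L ≤ M ∧ (∀ a ∈ A, ∀ l ∈ L, a * l = l * a) ∧ A ⊔ L = M ∧ Group.IsPerfect ↥L ∧
        Subgroup.center ↥L ≠ ⊥ ∧
        ∃ (F : Type) (_ : Field F) (_ : Fintype F), Fintype.card F = 8 ∧
          Nonempty (↥L ⧸ Subgroup.center ↥L ≃* ↥(Cfsg.Lie.Sz F 4))))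

section Maps

variable [Finite G]

theorem map_O2'_eq : (O2' G).map (QuotientGroup.mk' (Cfsg.oddCore G)) = Top G := by
  haveI := Fact.mk Nat.prime_two
  have hπ := QuotientGroup.mk'_surjective (Cfsg.oddCore G)
  rw [Top, O2', O2', Subgroup.map_iSup]
  refine le_antisymm (iSup_le fun S => ?_) (iSup_le fun T => ?_)
  · rw [← Sylow.coe_mapSurjective (P := S) hπ]
    exact le_O2' _
  · obtain ⟨S, rfl⟩ := Sylow.mapSurjective_surjective hπ 2 T
    rw [Sylow.coe_mapSurjective]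
    exact le_iSup (fun S : Sylow 2 G => (S : Subgroup G).map (QuotientGroup.mk' (Cfsg.oddCore G))) S

/-- The map from the group generated by the 2-elements. -/
noncomputable def topHom (G : Type u) [Group G] [Finite G] : ↥(O2' G) →* ↥(Top G) :=
  ((QuotientGroup.mk' (Cfsg.oddCore G)).comp (O2' G).subtype).codRestrict (Top G)
    fun x => map_O2'_eq.le (mem_map_of_mem _ x.2)

theorem topHom_surjective : Function.Surjective (topHom G) := by
  rintro ⟨y, hy⟩
  obtain ⟨x, hx, rfl⟩ := map_O2'_eq.ge hy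
  exact ⟨⟨x, hx⟩, rfl⟩

theorem topHom_ker {x : ↥(O2' G)} (h : topHom G x = 1) : (x : G) ∈ Cfsg.oddCore G :=
  (QuotientGroup.eq_one_iff (x : G)).1 (congrArg Subtype.val h)

theorem isPGroup_center_top : IsPGroup 2 ↥(center ↥(Top G)) := by
  refine InvChar.Core.isPGroup_center_of_oddCore_eq_bot (InvChar.Core.oddCore_eq_bot_of_isSubnormal
    (Cores.pPrimeCore_quotient_self 2) (Subgroup.Normal.isSubnormal inferInstance))

/-- Commuting images of elements of a 2-subgroup. -/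
theorem commute_of_topHom {P : Subgroup G} (hP : IsPGroup 2 ↥P) {x y : ↥(O2' G)} (hx : (x : G) ∈ P)
    (hy : (y : G) ∈ P) (h : Commute (topHom G x) (topHom G y)) : Commute (x : G) y := by
  haveI := Fact.mk Nat.prime_two
  have h1 : topHom G (x * y * x⁻¹ * y⁻¹) = 1 := by
    rw [map_mul, map_mul, map_mul, h.eq, map_inv, map_inv, mul_inv_cancel_right, mul_inv_cancel]
  have h2 : (x : G) * y * (x : G)⁻¹ * (y : G)⁻¹ ∈ P ⊓ Cfsg.oddCore G :=
    Subgroup.mem_inf.2 ⟨P.mul_mem (P.mul_mem (P.mul_mem hx hy) (P.inv_mem hx)) (P.inv_mem hy), topHom_ker h1⟩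
  rw [PLocal.Cores.inf_eq_bot_of_isPGroup_of_coprime hP
    (Nat.coprime_two_right.2 InvChar.Core.odd_card_oddCore), mem_bot] at h2
  exact mul_inv_eq_iff_eq_mul.1 (mul_inv_eq_one.1 h2)

/-- The Sylow subgroup as a Sylow subgroup of the group generated by them. -/
noncomputable def sylTop (S : Sylow 2 G) : Sylow 2 ↥(O2' G) := S.subtype (le_O2' S)

theorem mem_sylTop {S : Sylow 2 G} {x : ↥(O2' G)} :
    x ∈ (sylTop S : Subgroup ↥(O2' G)) ↔ (x : G) ∈ (S : Subgroup G) := Iff.rfl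

/-- The image of the Sylow subgroup in the central quotient of the top. -/
noncomputable def sylQ (S : Sylow 2 G) : Sylow 2 (↥(Top G) ⧸ center ↥(Top G)) :=
  haveI := Fact.mk Nat.prime_two
  (sylTop S).mapSurjective (f := (QuotientGroup.mk' _).comp (topHom G))
    ((QuotientGroup.mk'_surjective _).comp topHom_surjective)

/-- If all Sylow subgroups of the quotient are abelian and the derived group of the top has trivial
centre, then the Sylow subgroups are abelian. -/
theorem comm_sylow (hk : KindTI (↥(Top G) ⧸ center ↥(Top G)))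
    (hQ : ∀ T : Sylow 2 (↥(Top G) ⧸ center ↥(Top G)), ∀ x ∈ (T : Subgroup (↥(Top G) ⧸ center ↥(Top G))),
      ∀ y ∈ (T : Subgroup (↥(Top G) ⧸ center ↥(Top G))), Commute x y)
    (hb : center ↥(commutator ↥(Top G)) = ⊥) (S : Sylow 2 G) :
    ∀ x ∈ (S : Subgroup G), ∀ y ∈ (S : Subgroup G), Commute x y := by
  intro x hx y hy
  obtain ⟨hs, hna⟩ := kindTI_simple hk
  have h := comm_of_center_bot hs hna hQ hb ((sylTop S).isPGroup'.map (topHom G))
    _ (mem_map_of_mem (topHom G) (mem_sylTop.2 hx : (⟨x, le_O2' S hx⟩ : ↥(O2' G)) ∈ (sylTop S : Subgroup _)))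
    _ (mem_map_of_mem (topHom G) (mem_sylTop.2 hy : (⟨y, le_O2' S hy⟩ : ↥(O2' G)) ∈ (sylTop S : Subgroup _)))
  exact commute_of_topHom S.isPGroup' hx hy h

end Maps

/-- Generators of a Sylow subgroup give generators of its image. -/
theorem TwoGen.map {H : Type*} [Group H] {S : Subgroup G} (h : TwoGen S) (f : G →* H) : TwoGen (S.map f) := by
  obtain ⟨a, ha, b, hb, hab⟩ := h
  refine ⟨f a, mem_map_of_mem f ha, f b, mem_map_of_mem f hb, fun t ht => ?_⟩
  obtain ⟨s, hs, rfl⟩ := ht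
  obtain ⟨i, j, z, hz, hzc, rfl⟩ := hab s hs
  refine ⟨i, j, f z, mem_map_of_mem f hz, ?_, by rw [map_mul, map_mul, map_pow, map_pow]⟩
  rintro _ ⟨u, hu, rfl⟩
  exact (hzc u hu).map f

theorem TwoGen.subgroupOf {S K : Subgroup G} (h : TwoGen S) (hle : S ≤ K) : TwoGen (S.subgroupOf K) := by
  obtain ⟨a, ha, b, hb, hab⟩ := h
  refine ⟨⟨a, hle ha⟩, ha, ⟨b, hle hb⟩, hb, fun s hs => ?_⟩
  obtain ⟨i, j, z, hz, hzc, e⟩ := hab s hs
  exact ⟨i, j, ⟨z, hle hz⟩, hz, fun t ht => Subtype.ext (hzc t ht), Subtype.ext e⟩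

/-- The Suzuki and unitary quotients centralise the core. -/
theorem CI.centralises_core [Finite G] (hC : CI G) {S : Sylow 2 G}
    (hS : ∃ x ∈ (S : Subgroup G), ∃ s ∈ (S : Subgroup G), ¬ Commute x s) {n i : ℕ}
    (hd : ∀ T, TIData (T : Sylow 2 (↥(Top G) ⧸ center ↥(Top G))) n i) (hi : i ≠ 1) :
    ∀ x ∈ O2' G, ∀ v ∈ Cfsg.oddCore G, Commute x v := by
  haveI := Fact.mk Nat.prime_two
  have key : ∀ T : Sylow 2 G, ∀ s ∈ (T : Subgroup G), ∀ v ∈ Cfsg.oddCore G, Commute s v := by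
    intro T s hs v hv
    by_contra hn
    have hT : ∃ x ∈ (T : Subgroup G), ∃ s ∈ (T : Subgroup G), ¬ Commute x s := by
      obtain ⟨g, rfl⟩ := MulAction.exists_smul_eq G S T
      obtain ⟨x, hx, y, hy, hxy⟩ := hS
      exact ⟨_, ZStar.CyclicIntersections.conj_mem_smul g hx, _,
        ZStar.CyclicIntersections.conj_mem_smul g hy, fun h => hxy (by
          simpa [mul_assoc] using h.map (MulAut.conj g⁻¹).toMonoidHom)⟩
    have hg := (hC.fixed_involution hT InvChar.Core.odd_card_oddCore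
      (fun s _ v hv => (inferInstance : (Cfsg.oddCore G).Normal).conj_mem v hv s) ⟨s, hs, v, hv, hn⟩).2
    exact not_twoGen (hd (sylQ T)) hi
      ((hg.subgroupOf (le_O2' T)).map ((QuotientGroup.mk' _).comp (topHom G)))
  intro x hx v hv
  have h : O2' G ≤ centralizer {v} := iSup_le fun T s hs =>
    mem_centralizer_singleton_iff.2 (key T s hs v hv).eq
  exact mem_centralizer_singleton_iff.1 (h hx)

/-- When the core is centralised, the centre lies over the centre of the top. -/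
theorem comap_center [Finite G] (hO : ∀ x ∈ O2' G, ∀ v ∈ Cfsg.oddCore G, Commute x v) :
    (center ↥(Top G)).comap (topHom G) = center ↥(O2' G) := by
  haveI := Fact.mk Nat.prime_two
  refine le_antisymm (fun c hc => ?_) fun c hc => ?_
  · have key : ∀ T : Sylow 2 G, ∀ s : ↥(O2' G), (s : G) ∈ (T : Subgroup G) → Commute c s := by
      intro T s hs
      set k := c * s * c⁻¹ * s⁻¹ with hk
      have hker : topHom G k = 1 := by
        rw [hk, map_mul, map_mul, map_mul, ← mem_center_iff.1 hc (topHom G s), map_inv, map_inv,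
          mul_inv_cancel_right, mul_inv_cancel]
      have hkc : ∀ x : ↥(O2' G), Commute x k := fun x =>
        Subtype.ext (hO x x.2 k (topHom_ker hker)).eq
      have hcs : c * s * c⁻¹ = k * s := (inv_mul_cancel_right _ _).symm
      obtain ⟨e, he⟩ := IsPGroup.iff_orderOf.1 T.2 ⟨(s : G), hs⟩
      rw [Subgroup.orderOf_mk] at he
      have hs2 : s ^ 2 ^ e = 1 := Subtype.ext (by rw [coe_pow, coe_one, ← he, pow_orderOf_eq_one])
      have hk2 : k ^ 2 ^ e = 1 := by
        have h := congrArg (· ^ 2 ^ e) hcs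
        simp only [conj_pow, (hkc s).symm.mul_pow, hs2, mul_one, mul_inv_cancel] at h
        exact h.symm
      have hodd : Odd (orderOf k) := by
        rw [← Subgroup.orderOf_coe]
        exact InvChar.Core.odd_card_oddCore.of_dvd_nat
          (Subgroup.orderOf_dvd_natCard _ (topHom_ker hker))
      have h1 : k = 1 := orderOf_eq_one_iff.1
        (Nat.Coprime.eq_one_of_dvd (Nat.Coprime.pow_right e (Nat.coprime_two_right.2 hodd))
          (orderOf_dvd_of_pow_eq_one hk2))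
      rw [h1, one_mul] at hcs
      exact mul_inv_eq_iff_eq_mul.1 hcs
    have h : O2' G ≤ centralizer {(c : G)} := iSup_le fun T s hs =>
      mem_centralizer_singleton_iff.2 (congrArg Subtype.val (key T ⟨s, le_O2' T hs⟩ hs).symm.eq)
    exact mem_center_iff.2 fun x => Subtype.ext (mem_centralizer_singleton_iff.1 (h x.2))
  · refine mem_center_iff.2 fun y => ?_
    obtain ⟨x, rfl⟩ := topHom_surjective y
    rw [← map_mul, ← map_mul, mem_center_iff.1 hc x]

/-- The outcome over `PSL₂(2ⁿ)`. -/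
theorem altFive_of_linear [Finite G] {S : Sylow 2 G}
    (hS : ∃ x ∈ (S : Subgroup G), ∃ s ∈ (S : Subgroup G), ¬ Commute x s)
    {n : ℕ} {F : Type} [iF : Field F] [jF : Fintype F] (hn : 2 ≤ n) (hF : Fintype.card F = 2 ^ n)
    (e : ↥(Top G) ⧸ center ↥(Top G) ≃* Matrix.ProjectiveSpecialLinearGroup (Fin 2) F) : AltFive G := by
  haveI := Fact.mk Nat.prime_two
  have hk : KindTI (↥(Top G) ⧸ center ↥(Top G)) := Or.inl ⟨n, F, iF, jF, hn, hF, ⟨e⟩⟩
  haveI : CharP F 2 := charP_of_card_eq_prime_pow hF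
  obtain ⟨S₀, hS₀⟩ := CyclicSylowInter.KindFactsPSLTwo.exists_model (F := F) CharTwo.two_eq_zero hn hF
  have hd := (CyclicSylowInter.facts_of_model hS₀ e).2.2
  obtain ⟨hs, hna⟩ := kindTI_simple hk
  obtain ⟨hsup, hq, -, ⟨eL⟩⟩ := derived_facts hs hna
  have hnb : center ↥(commutator ↥(Top G)) ≠ ⊥ := fun hb => by
    obtain ⟨x, hx, y, hy, hxy⟩ := hS
    exact hxy (comm_sylow hk (fun T => comm_of_one (hd T)) hb S x hx y hy)
  rcases Nat.lt_or_ge n 3 with h3 | h3
  swap
  · exact absurd (Lib.CTwoAbelian.center_eq_bot_of_psl_even h3 hF hq (eL.trans e)) hnb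
  obtain rfl : n = 2 := by omega
  obtain ⟨e4⟩ := Cfsg.Agent.S0252.result (F := F) (by rw [hF]; norm_num)
  rcases Lib.CTwoAbelian.center_bot_or_sl_five hq ((eL.trans e).trans e4) with hb | ⟨F5, _, _, hF5, ⟨f5⟩⟩
  · exact absurd hb hnb
  haveI : Fact (Nat.Prime 5) := ⟨Nat.prime_five⟩
  let r : F5 ≃+* ZMod 5 := FiniteField.ringEquivOfCardEq (by simp [hF5])
  have f6 : ↥(commutator ↥(Top G)) ≃* Matrix.SpecialLinearGroup (Fin 2) (ZMod 5) :=
    f5.trans (MulEquiv.ofBijective (Matrix.SpecialLinearGroup.map (n := Fin 2) r.toRingHom)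
      (
        Function.bijective_iff_has_inverse.2 ⟨Matrix.SpecialLinearGroup.map (n := Fin 2) r.symm.toRingHom,
          fun A => Subtype.ext (by ext i j; simp), fun A => Subtype.ext (by ext i j; simp)⟩))
  set π := QuotientGroup.mk' (Cfsg.oddCore G)
  set M : Subgroup G := (Top G).comap π with hM
  have hNM : Cfsg.oddCore G ≤ M := by
    rw [hM]; exact le_trans (QuotientGroup.ker_mk' _).ge (ker_le_comap _ _)
  let φ : ↥M →* ↥(Top G) := π.subgroupComap (Top G)
  have hφ : Function.Surjective φ :=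
    π.subgroupComap_surjective_of_surjective _ (QuotientGroup.mk'_surjective _)
  have hker : φ.ker = (Cfsg.oddCore G).subgroupOf M := by
    ext x
    rw [MonoidHom.mem_ker, mem_subgroupOf, ← QuotientGroup.eq_one_iff (N := Cfsg.oddCore G)]
    exact Subtype.ext_iff
  let f : ↥M ⧸ (Cfsg.oddCore G).subgroupOf M ≃* ↥(Top G) :=
    (QuotientGroup.quotientMulEquivOfEq hker.symm).trans (QuotientGroup.quotientKerEquivOfSurjective φ hφ)
  refine ⟨Cfsg.oddCore G, M, inferInstance, Subgroup.Normal.comap inferInstance π, inferInstance,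
    lt_of_le_of_ne hNM fun h => ?_, InvChar.Core.odd_card_oddCore, ?_,
    (center ↥(Top G)).map f.symm.toMonoidHom, (commutator ↥(Top G)).map f.symm.toMonoidHom, ?_, ?_, ?_, ?_, ?_⟩
  · obtain ⟨x, hx, y, hy, hxy⟩ := hS
    have hmem : x ∈ M := map_O2'_eq.le (mem_map_of_mem π (le_O2' S hx))
    rw [← h] at hmem
    have h2 : x ∈ (S : Subgroup G) ⊓ Cfsg.oddCore G := ⟨hx, hmem⟩
    rw [PLocal.Cores.inf_eq_bot_of_isPGroup_of_coprime S.isPGroup'
      (Nat.coprime_two_right.2 InvChar.Core.odd_card_oddCore), mem_bot] at h2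
    exact hxy (h2 ▸ Commute.one_left y)
  · rw [hM, index_comap_of_surjective _ (QuotientGroup.mk'_surjective _)]
    exact odd_index_O2'
  · refine ⟨⟨fun a b => Subtype.ext ?_⟩⟩
    obtain ⟨_, z, hz, rfl⟩ := a
    obtain ⟨_, w, hw, rfl⟩ := b
    show f.symm.toMonoidHom z * f.symm.toMonoidHom w = f.symm.toMonoidHom w * f.symm.toMonoidHom z
    rw [← map_mul, ← map_mul, mem_center_iff.1 hw z]
  · exact isPGroup_center_top.map _
  · exact ⟨(equivMapOfInjective _ _ f.symm.injective).symm.trans f6⟩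
  · rintro _ ⟨z, hz, rfl⟩ _ ⟨l, -, rfl⟩
    rw [← map_mul, ← map_mul, mem_center_iff.1 hz l]
  · rw [← Subgroup.map_sup, sup_comm, hsup, map_top_of_surjective _ f.symm.surjective]

/-- The central quotient of the image of the derived group. -/
theorem central_quotient_map {M : Subgroup G} {K : Subgroup ↥M} {Q : Type*} [Group Q]
    (e : ↥K ⧸ center ↥K ≃* Q) : Nonempty (↥(K.map M.subtype) ⧸ center ↥(K.map M.subtype) ≃* Q) := by
  let f := equivMapOfInjective K M.subtype M.subtype_injective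
  have h : (center ↥K).map (f : ↥K →* ↥(K.map M.subtype)) = center ↥(K.map M.subtype) := by
    ext y
    constructor
    · rintro ⟨z, hz, rfl⟩
      refine mem_center_iff.2 fun x => ?_
      obtain ⟨w, rfl⟩ := f.surjective x
      show f w * f z = f z * f w
      rw [← map_mul, ← map_mul, mem_center_iff.1 hz w]
    · intro hy
      obtain ⟨z, rfl⟩ := f.surjective y
      refine ⟨z, mem_center_iff.2 fun w => f.injective ?_, rfl⟩
      rw [map_mul, map_mul, mem_center_iff.1 hy (f w)]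
  exact ⟨(QuotientGroup.congr _ _ f h).symm.trans e⟩

/-- The outcome over the Suzuki and unitary groups. -/
theorem altTI [Finite G] (hC : CI G) {S : Sylow 2 G}
    (hS : ∃ x ∈ (S : Subgroup G), ∃ s ∈ (S : Subgroup G), ¬ Commute x s)
    (hk : (∃ (m : ℕ) (F : Type) (_ : Field F) (_ : Fintype F), 1 ≤ m ∧ Fintype.card F = 2 ^ (2 * m + 1) ∧
        Nonempty (↥(Top G) ⧸ center ↥(Top G) ≃* ↥(Cfsg.Lie.Sz F (2 ^ (m + 1))))) ∨
      (∃ (n : ℕ) (F : Type) (_ : Field F) (_ : Fintype F), 2 ≤ n ∧ Fintype.card F = 4 ^ n ∧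
        Nonempty (↥(Top G) ⧸ center ↥(Top G) ≃* Cfsg.PSU 3 F (2 ^ n)))) : AltTI G := by
  haveI := Fact.mk Nat.prime_two
  obtain ⟨n, i, hi, hd⟩ : ∃ n i, i ≠ 1 ∧
      ∀ T, TIData (T : Sylow 2 (↥(Top G) ⧸ center ↥(Top G))) n i := by
    rcases hk with ⟨m, F, _, _, hm, hF, ⟨f⟩⟩ | ⟨n, F, _, _, hn, hF, ⟨f⟩⟩
    · haveI := Suzuki.charTwo hF
      obtain ⟨e⟩ := Suzuki.lieEquiv hm hF
      obtain ⟨S₀, hS₀⟩ := CyclicSylowInter.KindFactsSuzuki.exists_model hm hF
      exact ⟨_, 2, by norm_num, (CyclicSylowInter.facts_of_model hS₀ (f.trans e.symm)).2.2⟩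
    · have hF2 : Fintype.card F = (2 ^ n) ^ 2 := by
        rw [hF, show 4 = 2 ^ 2 by norm_num, ← pow_mul, ← pow_mul, mul_comm]
      haveI : CharP F 2 := charP_of_card_eq_prime_pow (f := n * 2) (by rw [hF2, pow_mul])
      obtain ⟨S₀, hS₀⟩ := CyclicSylowInter.KindFactsUnitary.exists_model hF2 hn
      exact ⟨_, 3, by norm_num, (CyclicSylowInter.facts_of_model hS₀ f).2.2⟩
  have hcen := comap_center (hC.centralises_core hS hd hi)
  set M := O2' G
  let θ := (QuotientGroup.mk' (center ↥(Top G))).comp (topHom G)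
  have hθk : θ.ker = center ↥M := by
    ext x
    rw [MonoidHom.mem_ker, ← hcen, mem_comap]
    exact QuotientGroup.eq_one_iff _
  let eM : ↥M ⧸ center ↥M ≃* ↥(Top G) ⧸ center ↥(Top G) :=
    (QuotientGroup.quotientMulEquivOfEq hθk.symm).trans
      (QuotientGroup.quotientKerEquivOfSurjective θ ((QuotientGroup.mk'_surjective _).comp topHom_surjective))
  obtain ⟨hs, hna⟩ := kindTI_simple (Q := ↥M ⧸ center ↥M)
    (CyclicSylowInter.KindTI.congr eM.symm (Or.inr hk))
  obtain ⟨hsup, hq, hcL, ⟨eL⟩⟩ := derived_facts hs hna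
  obtain ⟨P⟩ : Nonempty (Sylow 2 ↥(center ↥M)) := inferInstance
  set A₀ : Subgroup ↥M := (P : Subgroup ↥(center ↥M)).map (center ↥M).subtype with hA₀
  set L₀ : Subgroup ↥M := commutator ↥M
  have hA₀c : A₀ ≤ center ↥M := map_subtype_le _
  haveI hA₀n : A₀.Normal := ⟨fun a ha g => by rwa [mem_center_iff.1 (hA₀c ha) g, mul_inv_cancel_right]⟩
  have hgen : A₀ ⊔ L₀ = ⊤ := by
    have hidx : ¬ 2 ∣ (A₀ ⊔ L₀).index := by
      rw [← relIndex_top_right, ← hsup]
      have h1 : (A₀ ⊔ L₀).relIndex (L₀ ⊔ center ↥M) = (A₀ ⊔ L₀).relIndex (center ↥M) := by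
        have : L₀ ⊔ center ↥M = center ↥M ⊔ (A₀ ⊔ L₀) := by
          rw [← sup_assoc, sup_eq_left.2 hA₀c, sup_comm]
        rw [this, relIndex_sup_right]
      rw [h1]
      intro h2
      refine P.not_dvd_index (h2.trans ((relIndex_dvd_of_le_left _ le_sup_left).trans (dvd_of_eq ?_)))
      rw [hA₀, relIndex, subgroupOf, comap_map_eq_self_of_injective (subtype_injective _)]
    have hT : ∀ T : Sylow 2 ↥M, (T : Subgroup ↥M) ≤ A₀ ⊔ L₀ := by
      intro T t ht
      rw [← QuotientGroup.eq_one_iff (N := A₀ ⊔ L₀), ← orderOf_eq_one_iff]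
      obtain ⟨e, he⟩ := IsPGroup.iff_orderOf.1 T.2 ⟨t, ht⟩
      rw [Subgroup.orderOf_mk] at he
      refine Nat.Coprime.eq_one_of_dvd ((((Nat.Prime.coprime_iff_not_dvd Nat.prime_two).2 hidx).pow_left e).coprime_dvd_right
        (by rw [index_eq_card]; exact orderOf_dvd_natCard _)).symm ?_
      exact he ▸ orderOf_map_dvd (QuotientGroup.mk' (A₀ ⊔ L₀)) t
    exact eq_top_iff.2 ((gen_O2' (G := G)).ge.trans (iSup_le hT))
  set A := A₀.map M.subtype
  set L := L₀.map M.subtype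
  have hsupM : A ⊔ L = M := by
    rw [← Subgroup.map_sup, hgen, ← MonoidHom.range_eq_map, range_subtype]
  have hAL : ∀ a ∈ A, ∀ l ∈ L, a * l = l * a := by
    rintro _ ⟨a, ha, rfl⟩ _ ⟨l, -, rfl⟩
    exact congrArg Subtype.val (mem_center_iff.1 (hA₀c ha) l).symm
  have hA2 : IsPGroup 2 ↥A := (P.isPGroup'.map _).map _
  have hAcomm : IsMulCommutative ↥A := by
    refine ⟨⟨fun a b => Subtype.ext ?_⟩⟩
    obtain ⟨_, a', ha', rfl⟩ := a
    obtain ⟨_, b', -, rfl⟩ := b
    show (a' : G) * (b' : G) = (b' : G) * (a' : G)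
    exact congrArg Subtype.val (mem_center_iff.1 (hA₀c ha') b').symm
  let fL : ↥L₀ ≃* ↥L := equivMapOfInjective L₀ M.subtype M.subtype_injective
  have hinf : Odd (Nat.card (center ↥L₀)) → Cfsg.IsInternalDirectProduct A L M := by
    refine fun hodd => ⟨map_subtype_le _, map_subtype_le _, hAL, ?_, hsupM⟩
    rw [← map_inf_eq A₀ L₀ M.subtype M.subtype_injective, map_eq_bot_iff_of_injective _ M.subtype_injective,
      eq_bot_iff]
    rintro x ⟨hxA, hxL⟩
    have h1 : (⟨x, hxL⟩ : ↥L₀) ∈ center ↥L₀ := by rw [hcL]; exact hA₀c hxA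
    obtain ⟨e, he⟩ := IsPGroup.iff_orderOf.1 (P.isPGroup'.map (center ↥M).subtype) ⟨x, hxA⟩
    rw [Subgroup.orderOf_mk] at he
    have h2 : orderOf x ∣ Nat.card (center ↥L₀) := by
      have := Subgroup.orderOf_dvd_natCard _ h1
      rwa [Subgroup.orderOf_mk] at this
    rw [he] at h2
    obtain _ | e := e
    · exact mem_bot.2 (orderOf_eq_one_iff.1 (he.trans (pow_zero 2)))
    · exact absurd ((dvd_pow_self 2 e.succ_ne_zero).trans h2) hodd.not_two_dvd_nat
  refine ⟨M, inferInstance, odd_index_O2', A, L, hAcomm, hA2, ?_⟩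
  rcases hk with ⟨m, F, iF, jF, hm, hF, ⟨f⟩⟩ | ⟨n, F, iF, jF, hn, hF, ⟨f⟩⟩
  · by_cases hb : center ↥L₀ = ⊥
    · obtain ⟨g⟩ := equiv_of_center_bot hb ((eL.trans eM).trans f)
      exact Or.inl ⟨hinf (by rw [hb, card_bot]; exact odd_one),
        Or.inl ⟨m, F, iF, jF, hm, hF, ⟨fL.symm.trans g⟩⟩⟩
    rcases Nat.lt_or_ge m 2 with h2 | h2
    · obtain rfl : m = 1 := by omega
      refine Or.inr ⟨map_subtype_le _, map_subtype_le _, hAL, hsupM, ?_, ?_, F, iF, jF, hF,
        central_quotient_map ((eL.trans eM).trans f)⟩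
      · rw [isPerfect_iff]
        show ⁅L₀.map M.subtype, L₀.map M.subtype⁆ = L₀.map M.subtype
        rw [← map_commutator, isPerfect_iff.1 hq.1]
      · intro h
        refine hb (eq_bot_iff.2 fun z hz => ?_)
        have : fL z ∈ center ↥L := mem_center_iff.2 fun x => by
          obtain ⟨w, rfl⟩ := fL.surjective x
          rw [← map_mul, ← map_mul, mem_center_iff.1 hz w]
        rw [h, mem_bot, MulEquiv.map_eq_one_iff] at this
        exact this ▸ one_mem _
    · have hdvd := card_center_dvd (Cfsg.Agent.S2111.result h2 hF) hq ((eL.trans eM).trans f)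
      rw [Nat.card_congr Multiplicative.toAdd, Nat.card_zmod, Nat.dvd_one] at hdvd
      exact absurd (eq_bot_of_card_eq _ hdvd) hb
  · obtain ⟨hodd, he⟩ := psu_cover hn hF hq ((eL.trans eM).trans f)
    exact Or.inl ⟨hinf hodd, Or.inr ⟨n, F, iF, jF, hn, hF, he.imp
      (fun ⟨g⟩ => ⟨fL.symm.trans g⟩) (fun ⟨g⟩ => ⟨fL.symm.trans g⟩)⟩⟩

/-- The outcomes with nonabelian Sylow 2-subgroups. -/
theorem outcome [Finite G] (hC : CI G) (S : Sylow 2 G)
    (hS : ∃ x ∈ (S : Subgroup G), ∃ s ∈ (S : Subgroup G), ¬ Commute x s)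
    (hk : KindTI (↥(Top G) ⧸ center ↥(Top G))) : AltFive G ∨ AltTI G := by
  rcases hk with ⟨n, F, _, _, hn, hF, ⟨e⟩⟩ | hk | hk
  · exact Or.inl (altFive_of_linear hS hn hF e)
  · exact Or.inr (altTI hC hS (Or.inl hk))
  · exact Or.inr (altTI hC hS (Or.inr hk))

end Cfsg.Agent.CISylow
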