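import Cfsg.Agent.Lib.CISylow.Two
import Cfsg.Agent.Lib.CTwoAbelian.Covers
import Cfsg.Agent.Lib.CIT.ConsEPPOFour
import Cfsg.Agent.Lib.CyclicSylowInter.Socle
import Cfsg.Agent.S2089
import Cfsg.Agent.S2111

/-!
# The derived group of a central cover by a 2-group with odd multiplier splits it
-/

set_option autoImplicit false
set_option linter.style.haveILetI false
set_option linter.unusedSectionVars false

namespace Cfsg.Agent.CISylow

open Subgroup
open scoped Pointwise commutatorElement
open Cfsg.Agent.CyclicSylowInter (KindTI KindFacts)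

universe u

/-- A central 2-group cover of a perfect group with multiplier of odd order meets the derived group
trivially. -/
theorem commutator_inf_eq_bot_of_odd {R : Type u} [Group R] [Finite R] {P : Subgroup R}
    (hPc : P ≤ center R) (hP : IsPGroup 2 ↥P) {Q : Type} [Group Q] (g : R →* Q)
    (hg : Function.Surjective g) (hker : g.ker = P) (hperf : _root_.commutator Q = ⊤) {m : ℕ} [NeZero m]
    (hm : Cfsg.HasCyclicSchurMultiplier Q m) (hodd : Odd m) : _root_.commutator R ⊓ P = ⊥ := by
  set R' := _root_.commutator R with hR'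
  have hsurj : ∀ q : Q, ∃ r ∈ R', g r = q := fun q => by
    have h : R'.map g = ⊤ := by
      rw [hR', _root_.commutator_def, map_commutator, map_top_of_surjective g hg, ← _root_.commutator_def, hperf]
    exact h.ge (mem_top q)
  have hdec : ∀ r : R, ∃ a ∈ R', ∃ p ∈ P, r = a * p := fun r => by
    obtain ⟨a, ha, he⟩ := hsurj (g r)
    exact ⟨a, ha, a⁻¹ * r, hker ▸ MonoidHom.mem_ker.2 (by rw [map_mul, map_inv, he, inv_mul_cancel]),
      (mul_inv_cancel_left a r).symm⟩
  have hperfR : R' ≤ ⁅R', R'⁆ := by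
    conv_lhs => rw [hR', _root_.commutator_def]
    rw [commutator_le]
    intro r _ s _
    obtain ⟨a, ha, p, hp, rfl⟩ := hdec r
    obtain ⟨b, hb, q, hq, rfl⟩ := hdec s
    have hpc := mem_center_iff.1 (hPc hp)
    have hqc := mem_center_iff.1 (hPc hq)
    have e : ⁅a * p, b * q⁆ = ⁅a, b⁆ := by
      simp only [commutatorElement_def, mul_inv_rev]
      calc a * p * (b * q) * (p⁻¹ * a⁻¹) * (q⁻¹ * b⁻¹)
          = a * (p * (b * q)) * p⁻¹ * a⁻¹ * (q⁻¹ * b⁻¹) := by group
        _ = a * b * q * a⁻¹ * (q⁻¹ * b⁻¹) := by rw [← hpc (b * q)]; group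
        _ = a * b * (a⁻¹ * q) * (q⁻¹ * b⁻¹) := by rw [hqc a⁻¹]; group
        _ = _ := by group
    rw [e]
    exact commutator_mem_commutator ha hb
  obtain ⟨K', iK, jK, ⟨eK⟩⟩ := Lib.CTwoAbelian.exists_small ↥R'
  let σ : K' →* Q := (g.comp R'.subtype).comp eK.toMonoidHom
  have hσ : Cfsg.IsStemExtension σ := by
    refine ⟨fun q => ?_, fun k hk => ?_, ?_⟩
    · obtain ⟨r, hr, e⟩ := hsurj q
      exact ⟨eK.symm ⟨r, hr⟩, by simp [σ, e]⟩
    · have h : ((eK k : ↥R') : R) ∈ P := hker ▸ MonoidHom.mem_ker.2 hk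
      refine mem_center_iff.2 fun y => eK.injective (Subtype.ext ?_)
      simp only [map_mul, Subgroup.coe_mul]
      exact mem_center_iff.1 (hPc h) _
    · have htop : _root_.commutator ↥R' = ⊤ := by
        apply map_injective R'.subtype_injective
        rw [map_subtype_commutator, ← MonoidHom.range_eq_map, range_subtype]
        exact le_antisymm (commutator_le.2 fun a ha b hb => mul_mem (mul_mem (mul_mem ha hb) (inv_mem ha)) (inv_mem hb)) hperfR
      have h : (_root_.commutator K').map eK.toMonoidHom = ⊤ := by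
        rw [_root_.commutator_def, map_commutator, map_top_of_surjective _ eK.surjective, ← _root_.commutator_def, htop]
      intro k _
      obtain ⟨y, hy, he⟩ := h.ge (mem_top (eK k))
      exact eK.injective he ▸ hy
  obtain ⟨π, hπ⟩ := hm.2 K' σ hσ
  have hdvd : Nat.card σ.ker ∣ m := by
    have := Subgroup.card_dvd_of_surjective π hπ
    rwa [Nat.card_congr Multiplicative.toAdd, Nat.card_zmod] at this
  rw [eq_bot_iff]
  rintro r ⟨hr, hrP⟩
  set k := eK.symm ⟨r, hr⟩
  have hk : k ∈ σ.ker := MonoidHom.mem_ker.2 (by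
    show g ((eK (eK.symm ⟨r, hr⟩) : ↥R') : R) = 1
    rw [eK.apply_symm_apply]
    exact MonoidHom.mem_ker.1 (hker ▸ hrP))
  have hord : orderOf r ∣ m := by
    refine dvd_trans ?_ hdvd
    have h := σ.ker.orderOf_dvd_natCard hk
    rwa [MulEquiv.orderOf_eq eK.symm, orderOf_mk] at h
  obtain ⟨j, hj⟩ := hP ⟨r, hrP⟩
  exact mem_bot.2 (SETwoClosed.TwoEl.eq_one_of_odd ⟨j, by simpa using congrArg Subtype.val hj⟩
    (hodd.of_dvd_nat hord))

variable {G : Type u} [Group G] [Finite G]

theorem splitU (hF : KindFacts.{u}) (R : RG G) (hb : TrivBelow.{u} (Nat.card G)) : SplitU G := by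
  classical
  intro S x t n i M hx B hi
  haveI := Fact.mk Nat.prime_two
  obtain ⟨hk, hsimp, hne⟩ := kind_gTop R hb hx hF
  haveI := hsimp
  have hperfL : _root_.commutator (gTop x) = ⊤ := by
    refine (IsSimpleGroup.eq_bot_or_eq_top_of_normal _ inferInstance).resolve_left fun h => hne ?_
    exact ⟨⟨fun a b => commutatorElement_eq_one_iff_mul_comm.1 (mem_bot.1 (h ▸
      commutator_mem_commutator (mem_top a) (mem_top b)))⟩⟩
  obtain ⟨hdvd, h3⟩ := B.dvd_card
  rw [hi] at hdvd
  have hn2 := B.two_le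
  -- the derived group of the reduced group meets the 2-core trivially
  have key : _root_.commutator (gRed x) ⊓ Cfsg.pCore 2 (gRed x) = ⊥ := by
    have main : ∀ (Q : Type) [Group Q] (e : gTop x ≃* Q) (m : ℕ) [NeZero m],
        Cfsg.HasCyclicSchurMultiplier Q m → Odd m → _root_.commutator (gRed x) ⊓ Cfsg.pCore 2 (gRed x) = ⊥ := by
      intro Q _ e m _ hm hodd
      refine commutator_inf_eq_bot_of_odd (rg_gRed R hx).pCore_le_center PLocal.Cores.isPGroup_pCore
        (e.toMonoidHom.comp (QuotientGroup.mk' _)) (e.surjective.comp (QuotientGroup.mk'_surjective _)) ?_ ?_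
        hm hodd
      · ext z
        exact (map_eq_one_iff e e.injective).trans (QuotientGroup.eq_one_iff z)
      · rw [_root_.commutator_def, ← map_top_of_surjective e.toMonoidHom e.surjective, ← map_commutator,
          ← _root_.commutator_def, hperfL]
    rcases hk with ⟨k, F, iF, jF, hk2, hcard, ⟨e⟩⟩ | ⟨k, F, iF, jF, hk1, hcard, ⟨e⟩⟩ |
      ⟨k, F, iF, jF, hk2, hcard, ⟨e⟩⟩
    · have h2F : 2 ∣ Fintype.card F := hcard ▸ dvd_pow_self 2 (by omega)
      have hg : Nat.gcd 2 (Fintype.card F - 1) = 1 :=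
        (Nat.prime_two.coprime_iff_not_dvd).2 fun h => by
          have : 0 < Fintype.card F := Fintype.card_pos
          omega
      rcases Nat.lt_or_ge k 3 with h | h
      · exfalso
        obtain rfl : k = 2 := by omega
        have hc := Classical.SmallIso.natCard_pslTwo F
        rw [hg, one_mul, Classical.GL2.natCard_SL_two, hcard, ← Nat.card_congr e.toEquiv] at hc
        rw [hc] at hdvd
        have h64 : 64 ∣ (2 ^ n) ^ 3 := by
          rw [← pow_mul, show (64 : ℕ) = 2 ^ 6 by norm_num]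
          exact pow_dvd_pow 2 (by omega)
        have := h64.trans hdvd
        norm_num at this
      · refine main _ e 1 ?_ odd_one
        have hm := Cfsg.Agent.S2086.result (F := F) rfl 2 le_rfl (fun _ => by
          rw [hcard]; exact le_trans (by norm_num) (Nat.pow_le_pow_right two_pos h)) (by
          have h8 : 8 ≤ Fintype.card F := by
            rw [hcard]; exact le_trans (by norm_num) (Nat.pow_le_pow_right two_pos h)
          simp only [Set.mem_insert_iff, Set.mem_singleton_iff, Prod.mk.injEq]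
          omega)
        rwa [hg] at hm
    · rcases Nat.lt_or_ge k 2 with h | h
      · exfalso
        obtain rfl : k = 1 := by omega
        have hc := CIT.card_lie_sz hk1 hcard
        rw [← Nat.card_congr e.toEquiv] at hc
        norm_num at hc
        rw [hc] at hdvd h3
        rcases Nat.eq_or_lt_of_le hn2 with h' | h'
        · have := h3 h'.symm
          norm_num at this
        · have h512 : 512 ∣ (2 ^ n) ^ 3 := by
            rw [← pow_mul, show (512 : ℕ) = 2 ^ 9 by norm_num]
            exact pow_dvd_pow 2 (by omega)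
          have := h512.trans hdvd
          norm_num at this
      · exact main _ e 1 (Cfsg.Agent.S2111.result h hcard) odd_one
    · have hm := Cfsg.Agent.S2089.result (F := F) 3 (2 ^ k) (by
        rw [hcard, ← pow_mul, mul_comm, pow_mul]; norm_num) le_rfl (fun h => by
        have : 4 ≤ 2 ^ k := by simpa using Nat.pow_le_pow_right (n := 2) two_pos hk2
        omega) (by simp)
      haveI : NeZero (Nat.gcd 3 (2 ^ k + 1)) := ⟨(Nat.gcd_pos_of_pos_left _ (by norm_num)).ne'⟩
      exact main _ e _ hm ((by decide : Odd 3).of_dvd_nat (Nat.gcd_dvd_left _ _))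
  set X := _root_.commutator ↥(gx x)
  set U := S.subtype (le_gx B.mem)
  refine ⟨((U : Subgroup ↥(gx x)) ⊓ X).map (gx x).subtype, ?_, ?_, ?_⟩
  · rintro _ ⟨u, hu, rfl⟩
    exact hu.1
  · rw [eq_bot_iff]
    rintro _ ⟨⟨u, ⟨huU, huX⟩, rfl⟩, huE⟩
    have h1 := gHom_eq_one.1 ((mem_Ix_iff R hb hx B.mem huU).1 huE)
    have h2 : QuotientGroup.mk' (Cfsg.oddCore ↥(gx x)) u ∈ _root_.commutator (gRed x) := by
      rw [_root_.commutator_def, ← map_top_of_surjective _ (QuotientGroup.mk'_surjective (Cfsg.oddCore ↥(gx x))),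
        ← map_commutator]
      exact mem_map_of_mem _ huX
    have h3 : QuotientGroup.mk' (Cfsg.oddCore ↥(gx x)) u = QuotientGroup.mk' (Cfsg.oddCore ↥(gx x)) 1 := by
      rw [map_one, ← mem_bot, ← key]; exact ⟨h2, h1⟩
    obtain rfl := eq_of_mk_eq R hx (U := S) (V := S) huU (one_mem _) h3
    exact mem_bot.2 rfl
  · intro s hs
    haveI : X.Normal := inferInstance
    have hXL : Function.Surjective ((gHom x).domRestrict X) := fun l => by
      have h : X.map (gHom x) = ⊤ := by
        rw [show X = ⁅(⊤ : Subgroup ↥(gx x)), ⊤⁆ from _root_.commutator_def _, map_commutator,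
          map_top_of_surjective _ (gHom_surjective x), ← _root_.commutator_def, hperfL]
      obtain ⟨r, hr, e⟩ := h.ge (mem_top l)
      exact ⟨⟨r, hr⟩, e⟩
    set P := (CyclicSylowInter.sylowIn U X).mapSurjective hXL
    set U' := U.mapSurjective (gHom_surjective x)
    have hPU : P = U' := Sylow.ext (P.3 U'.isPGroup' (by
      rintro _ ⟨r, hr, rfl⟩
      exact ⟨(r : ↥(gx x)), hr, rfl⟩)).symm
    have hsU : gHom x ⟨s, le_gx B.mem hs⟩ ∈ (U' : Subgroup (gTop x)) := ⟨_, hs, rfl⟩
    rw [← hPU] at hsU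
    obtain ⟨r, hr, he⟩ := hsU
    refine ⟨s⁻¹ * ((r : ↥(gx x)) : G), ?_, (mul_inv_cancel_left s _).symm ▸ ⟨_, ⟨hr, r.2⟩, rfl⟩⟩
    refine (mem_Ix_iff R hb hx B.mem (u := ⟨s, le_gx B.mem hs⟩⁻¹ * (r : ↥(gx x)))
      (mul_mem (inv_mem hs) hr)).2 ?_
    rw [map_mul, map_inv, show gHom x (r : ↥(gx x)) = gHom x ⟨s, le_gx B.mem hs⟩ from he, inv_mul_cancel]

end Cfsg.Agent.CISylow
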