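import Cfsg.Agent.Lib.CISylow.Fixed
import Cfsg.Agent.Lib.CyclicSylowInter.Reduction
import Cfsg.Agent.Lib.SETwoClosed.TIMain

/-!
# Reduced groups with trivial Sylow intersections modulo the 2-core

The quotient by the 2-core is one of the three simple families.
-/

set_option autoImplicit false
set_option linter.style.haveILetI false
set_option linter.unusedSectionVars false

namespace Cfsg.Agent.CISylow

open Subgroup
open scoped Pointwise
open Cfsg.Agent.CyclicSylowInter (KindTI KindFacts TISylow Five)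
open Cfsg.Agent.ZStar.CyclicIntersections (CycInt conj_mem_smul mem_smul)

universe u

/-- The reduced groups of the kind studied. -/
structure RG (G : Type*) [Group G] : Prop where
  ci : CI G
  odd : Cfsg.oddCore G = ⊥
  gen : Gen G
  nonab : ∀ S : Sylow 2 G, ∃ x ∈ (S : Subgroup G), ∃ s ∈ (S : Subgroup G), ¬ Commute x s
  other : ∀ S : Sylow 2 G, ∃ T : Sylow 2 G, T ≠ S

/-- Distinct Sylow 2-subgroups meet in the 2-core. -/
def Triv (G : Type*) [Group G] : Prop :=
  ∀ S T : Sylow 2 G, S ≠ T → ∀ x ∈ (S : Subgroup G), x ∈ (T : Subgroup G) → x ∈ Cfsg.pCore 2 G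

variable {G : Type*} [Group G] [Finite G]

theorem forall_nonab {S : Sylow 2 G}
    (h : ∃ x ∈ (S : Subgroup G), ∃ s ∈ (S : Subgroup G), ¬ Commute x s) (T : Sylow 2 G) :
    ∃ x ∈ (T : Subgroup G), ∃ s ∈ (T : Subgroup G), ¬ Commute x s := by
  haveI := Fact.mk Nat.prime_two
  obtain ⟨g, rfl⟩ := MulAction.exists_smul_eq G S T
  obtain ⟨x, hx, s, hs, hxs⟩ := h
  refine ⟨_, conj_mem_smul g hx, _, conj_mem_smul g hs, fun hc => hxs ?_⟩
  have := hc.map (MulAut.conj g⁻¹).toMonoidHom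
  simpa [mul_assoc] using this

theorem forall_other {S T : Sylow 2 G} (h : T ≠ S) (U : Sylow 2 G) : ∃ V : Sylow 2 G, V ≠ U := by
  by_cases hU : S = U
  · exact ⟨T, hU ▸ h⟩
  · exact ⟨S, hU⟩

namespace RG

variable (R : RG G)
include R

theorem pCore_le_center : Cfsg.pCore 2 G ≤ center G := by
  intro d hd
  have h : O2' G ≤ centralizer {d} := iSup_le fun S s hs => by
    obtain ⟨T, hT⟩ := R.other S
    exact ZStar.CyclicIntersections.mem_cent.2
      (R.ci S T hT.symm d (PLocal.Cores.pCore_le_sylow S hd) (PLocal.Cores.pCore_le_sylow T hd) s hs).symm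
  exact mem_center_iff.2 fun g =>
    (ZStar.CyclicIntersections.mem_cent.1 (h (R.gen.symm ▸ mem_top g : g ∈ O2' G))).eq

theorem center_eq : center G = Cfsg.pCore 2 G :=
  le_antisymm (PLocal.Cores.le_pCore (InvChar.Core.isPGroup_center_of_oddCore_eq_bot R.odd)) R.pCore_le_center

theorem pCore_lt (S : Sylow 2 G) : Cfsg.pCore 2 G < (S : Subgroup G) := by
  refine lt_of_le_of_ne (PLocal.Cores.pCore_le_sylow S) fun e => ?_
  obtain ⟨x, hx, s, -, hxs⟩ := R.nonab S
  exact hxs (mem_center_iff.1 (R.pCore_le_center (e ▸ hx)) s).symm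

/-- A 2-element of the preimage of a Sylow subgroup modulo the 2-core lies in it. -/
theorem mem_of_map {S : Sylow 2 G} {x : G}
    (h : QuotientGroup.mk' (Cfsg.pCore 2 G) x ∈ (S : Subgroup G).map (QuotientGroup.mk' (Cfsg.pCore 2 G))) :
    x ∈ (S : Subgroup G) := by
  rw [← mem_comap, comap_map_eq, QuotientGroup.ker_mk', sup_eq_left.2 (PLocal.Cores.pCore_le_sylow S)] at h
  exact h

theorem oddCore_quot : Cfsg.oddCore (G ⧸ Cfsg.pCore 2 G) = ⊥ := by
  haveI := Fact.mk Nat.prime_two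
  set D := Cfsg.pCore 2 G
  set π := QuotientGroup.mk' D
  set N := (Cfsg.oddCore (G ⧸ D)).comap π
  haveI hN : N.Normal := (InvChar.Core.pPrimeCore_characteristic 2 : (Cfsg.oddCore (G ⧸ D)).Characteristic)
    |> fun h => (haveI := h; inferInstance : (Cfsg.oddCore (G ⧸ D)).Normal).comap π
  have hDN : D ≤ N := fun d hd => by
    rw [mem_comap, show π d = 1 from (QuotientGroup.eq_one_iff d).2 hd]; exact one_mem _
  have hidx : (D.subgroupOf N).index = Nat.card ↥(Cfsg.oddCore (G ⧸ D)) := by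
    have h1 : D.relIndex N = ((⊥ : Subgroup (G ⧸ D)).comap π).relIndex N := by
      rw [MonoidHom.comap_bot, QuotientGroup.ker_mk']
    rw [← relIndex, h1, relIndex_comap, map_comap_eq_self_of_surjective (QuotientGroup.mk'_surjective D),
      relIndex_bot_left]
  have hcop : Nat.Coprime (Nat.card ↥(D.subgroupOf N)) (D.subgroupOf N).index := by
    obtain ⟨k, hk⟩ := IsPGroup.iff_card.1 (PLocal.Cores.isPGroup_pCore (G := G) (p := 2))
    rw [hidx, Nat.card_congr (subgroupOfEquivOfLe hDN).toEquiv, hk]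
    exact Nat.Coprime.pow_left _ (Nat.coprime_two_left.2 InvChar.Core.odd_card_oddCore)
  obtain ⟨K, hK⟩ := exists_right_complement'_of_coprime hcop
  have hKn : K.Normal := by
    refine ⟨fun k hk g => ?_⟩
    obtain ⟨⟨⟨d, hd⟩, ⟨k', hk'⟩⟩, hg⟩ := hK.2 g
    obtain rfl : d * k' = g := hg
    have hdc : ∀ y : ↥N, Commute d y := fun y =>
      Subtype.ext (mem_center_iff.1 (R.pCore_le_center hd) (y : G)).symm
    have e : d * k' * k * (d * k')⁻¹ = k' * k * k'⁻¹ := by
      rw [mul_inv_rev, show d * k' * k * (k'⁻¹ * d⁻¹) = d * (k' * k * k'⁻¹) * d⁻¹ by group,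
        (hdc _).eq, mul_inv_cancel_right]
    rw [e]
    exact mul_mem (mul_mem hk' hk) (inv_mem hk')
  have hKodd : Odd (Nat.card K) := by
    rw [← hK.symm.index_eq_card, hidx]
    exact InvChar.Core.odd_card_oddCore
  have hK1 : K = ⊥ := le_bot_iff.1 ((InvChar.Core.le_oddCore hKn hKodd).trans
    (InvChar.Core.oddCore_eq_bot_of_isSubnormal R.odd hN.isSubnormal).le)
  rw [eq_bot_iff]
  intro q hq
  obtain ⟨g, rfl⟩ := QuotientGroup.mk'_surjective D q
  obtain ⟨⟨⟨d, hd⟩, ⟨k, hk⟩⟩, hg⟩ := hK.2 (⟨g, hq⟩ : ↥N)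
  rw [hK1, SetLike.mem_coe, mem_bot] at hk
  subst hk
  obtain rfl : (d : G) = g := by simpa using congrArg Subtype.val hg
  exact mem_bot.2 ((QuotientGroup.eq_one_iff _).2 hd)

theorem gen_quot : Gen (G ⧸ Cfsg.pCore 2 G) := R.gen.map (QuotientGroup.mk'_surjective _)

theorem quot_inf_bot (hT : Triv G) (A B : Sylow 2 (G ⧸ Cfsg.pCore 2 G)) (hne : A ≠ B) :
    (A : Subgroup (G ⧸ Cfsg.pCore 2 G)) ⊓ (B : Subgroup (G ⧸ Cfsg.pCore 2 G)) = ⊥ := by
  haveI := Fact.mk Nat.prime_two
  have hs := QuotientGroup.mk'_surjective (Cfsg.pCore 2 G)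
  obtain ⟨S, rfl⟩ := Sylow.mapSurjective_surjective hs 2 A
  obtain ⟨T, rfl⟩ := Sylow.mapSurjective_surjective hs 2 B
  have hST : S ≠ T := fun e => hne (by rw [e])
  rw [eq_bot_iff]
  intro q hq
  obtain ⟨g, rfl⟩ := hs q
  rw [mem_inf, Sylow.coe_mapSurjective, Sylow.coe_mapSurjective] at hq
  exact mem_bot.2 ((QuotientGroup.eq_one_iff g).2 (hT S T hST g (R.mem_of_map hq.1) (R.mem_of_map hq.2)))

theorem exists_two_sylow_quot :
    ∃ A B : Sylow 2 (G ⧸ Cfsg.pCore 2 G), A ≠ B := by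
  haveI := Fact.mk Nat.prime_two
  have hs := QuotientGroup.mk'_surjective (Cfsg.pCore 2 G)
  obtain ⟨T, hT⟩ := R.other default
  refine ⟨T.mapSurjective hs, (default : Sylow 2 G).mapSurjective hs, fun e => hT (Sylow.ext ?_)⟩
  have h := congrArg (fun P : Sylow 2 (G ⧸ Cfsg.pCore 2 G) =>
    (P : Subgroup (G ⧸ Cfsg.pCore 2 G)).comap (QuotientGroup.mk' (Cfsg.pCore 2 G))) e
  simpa only [Sylow.coe_mapSurjective, comap_map_eq, QuotientGroup.ker_mk',
    sup_eq_left.2 (PLocal.Cores.pCore_le_sylow _)] using h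

end RG

/-- The quotient by the 2-core is one of the three families. -/
theorem RG.kindTI_quot {G : Type u} [Group G] [Finite G] (hF : KindFacts.{u}) (R : RG G) (hT : Triv G) :
    KindTI (G ⧸ Cfsg.pCore 2 G) ∧ IsSimpleGroup (G ⧸ Cfsg.pCore 2 G) ∧
      ¬ IsMulCommutative (G ⧸ Cfsg.pCore 2 G) := by
  haveI := Fact.mk Nat.prime_two
  set Q := G ⧸ Cfsg.pCore 2 G
  obtain ⟨A, B, hAB⟩ := R.exists_two_sylow_quot
  have hC : CycInt Q := fun S T h => by rw [R.quot_inf_bot hT S T h]; infer_instance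
  have hcore : Cfsg.pCore 2 Q = ⊥ := PLocal.Cores.pCore_quotient_pCore
  have hns : ¬ Group.IsSolvable Q := fun h => by
    have := ZStar.CyclicIntersections.isPGroup_of_cyclic_pCore R.oddCore_quot (by rw [hcore]; infer_instance)
    have htop : ∀ P : Sylow 2 Q, (P : Subgroup Q) = ⊤ := fun P =>
      (P.is_maximal' (this.to_subgroup ⊤) le_top).symm
    exact hAB (Sylow.ext ((htop A).trans (htop B).symm))
  have hQ : ZStar.CyclicIntersections.Reduced Q := ⟨hns, hC, fun N hN hs => by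
    haveI := hN
    exact le_bot_iff.1 ((ZStar.CyclicIntersections.le_pCore_of_solvable hC hns R.oddCore_quot N hs).trans
      hcore.le)⟩
  obtain ⟨L, hL, hs, hne, -⟩ := CyclicSylowInter.exists_socle hQ
  haveI := hL
  haveI := hs
  have hk : KindTI ↥L := by
    refine SETwoClosed.tiTheorem ↥L hne (hC.subgroup L) fun S T x hx hxS hxT => ?_
    by_contra hST
    obtain ⟨S', hS'⟩ := (S.isPGroup'.map L.subtype).exists_le_sylow
    obtain ⟨T', hT'⟩ := (T.isPGroup'.map L.subtype).exists_le_sylow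
    have key : ∀ (U : Sylow 2 L) (V : Sylow 2 Q), (U : Subgroup L).map L.subtype ≤ V →
        (V : Subgroup Q).subgroupOf L = (U : Subgroup L) := fun U V h =>
      U.is_maximal' V.isPGroup'.comap_subtype fun x hx => h (mem_map_of_mem _ hx)
    have hne' : S' ≠ T' := by
      rintro rfl
      exact hST (Sylow.ext ((key S S' hS').symm.trans (key T S' hT')))
    have h1 : (x : Q) ∈ (S' : Subgroup Q) ⊓ (T' : Subgroup Q) :=
      ⟨hS' (mem_map_of_mem _ hxS), hT' (mem_map_of_mem _ hxT)⟩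
    rw [R.quot_inf_bot hT S' T' hne', mem_bot] at h1
    obtain rfl : x = 1 := Subtype.ext h1
    simp at hx
  have hodd := CyclicSylowInter.odd_index_socle hF SETwoClosed.tiTheorem hQ L hne hk.five
  have htop : L = ⊤ := by
    rw [eq_top_iff, ← (R.gen_quot : O2' Q = ⊤)]
    refine iSup_le fun P => ?_
    have h1 := P.isPGroup'.map (QuotientGroup.mk' L)
    have h2 : (P : Subgroup Q).map (QuotientGroup.mk' L) = ⊥ := by
      obtain ⟨k, hk'⟩ := IsPGroup.iff_card.1 h1
      rw [← card_le_one_iff_eq_bot, hk']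
      rcases Nat.eq_zero_or_pos k with rfl | hpos
      · simp
      · exfalso
        have h3 := card_subgroup_dvd_card ((P : Subgroup Q).map (QuotientGroup.mk' L))
        rw [hk', ← index_eq_card] at h3
        exact (Nat.not_even_iff_odd.2 hodd) (even_iff_two_dvd.2 ((dvd_pow_self 2 hpos.ne').trans h3))
    rwa [Subgroup.map_eq_bot_iff, QuotientGroup.ker_mk'] at h2
  subst htop
  refine ⟨KindTI.congr Subgroup.topEquiv hk, CyclicSylowInter.isSimpleGroup_congr Subgroup.topEquiv,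
    fun h => hne ⟨⟨fun a b => Subtype.ext (h.is_comm.comm (a : Q) b)⟩⟩⟩

end Cfsg.Agent.CISylow
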