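import Cfsg.Agent.Lib.CISylow.One
import Cfsg.Agent.Lib.DClassConf.Main
import Cfsg.Agent.Lib.DClassConf.Central

/-!
# Two intersections in each Sylow subgroup

The squares form a configuration on the Sylow subgroups modulo the 2-core, so no element outside it
lies in two of them.
-/

set_option autoImplicit false
set_option linter.style.haveILetI false
set_option linter.unusedSectionVars false

namespace Cfsg.Agent.CISylow

open Subgroup
open scoped Pointwise
open Cfsg.Agent.CyclicSylowInter (KindFacts TITheorem)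
open Cfsg.Agent.ZStar.CyclicIntersections (conj_mem_smul mem_smul mem_cent)

universe u

variable {G : Type u} [Group G] [Finite G]

/-- For `i = 3` the Sylow subgroup splits over the intersection. -/
def SplitU (G : Type u) [Group G] : Prop :=
  ∀ (S : Sylow 2 G) (x t : G) (n i M : ℕ), Multi x → Blk S x t n i M → i = 3 →
    ∃ S₀ : Subgroup G, S₀ ≤ (S : Subgroup G) ∧ S₀ ⊓ Ix x = ⊥ ∧
      ∀ s ∈ (S : Subgroup G), ∃ e ∈ Ix x, s * e ∈ S₀

/-- The central elements of a Sylow subgroup. -/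
def Zc (S : Sylow 2 G) : Subgroup G := (S : Subgroup G) ⊓ centralizer ((S : Subgroup G) : Set G)

theorem mem_Zc {S : Sylow 2 G} {z : G} :
    z ∈ Zc S ↔ z ∈ (S : Subgroup G) ∧ ∀ s ∈ (S : Subgroup G), Commute z s :=
  ⟨fun h => ⟨h.1, fun s hs => (mem_centralizer_iff.1 h.2 s hs).symm⟩,
    fun h => ⟨h.1, mem_centralizer_iff.2 fun s hs => (h.2 s hs).symm⟩⟩

theorem conj_mem_Zc {S : Sylow 2 G} {g z : G} (hg : g • S = S) (hz : z ∈ Zc S) : g * z * g⁻¹ ∈ Zc S := by
  obtain ⟨hzS, hzc⟩ := mem_Zc.1 hz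
  refine mem_Zc.2 ⟨conj_mem_of_smul_eq hg hzS, fun s hs => ?_⟩
  exact ZStar.CyclicIntersections.commute_conj_of_normalizer (Sylow.smul_eq_iff_mem_normalizer.1 hg) hzc hs

/-- The subgroup generated by the squares. -/
def Wsub (S : Sylow 2 G) : Subgroup G := closure {w | ∃ s ∈ (S : Subgroup G), s * s = w}

theorem sq_mem_Wsub {S : Sylow 2 G} {s : G} (hs : s ∈ (S : Subgroup G)) : s * s ∈ Wsub S :=
  subset_closure ⟨s, hs, rfl⟩

/-- Some Sylow subgroup has two intersections; the standing hypotheses of this file. -/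
structure TwoHyp (G : Type u) [Group G] [Finite G] : Prop where
  rg : RG G
  below : TrivBelow.{u} (Nat.card G)
  facts : KindFacts.{u}
  two : ∀ (S : Sylow 2 G) (x : G), Multi x → x ∈ (S : Subgroup G) →
    ∃ y, Multi y ∧ y ∈ (S : Subgroup G) ∧ Ix y ≠ Ix x

theorem two_of_not_one (h : ¬ OneBlock G) (S : Sylow 2 G) (x : G) :
    ∃ y, Multi y ∧ y ∈ (S : Subgroup G) ∧ Ix y ≠ Ix x := by
  haveI := Fact.mk Nat.prime_two
  simp only [OneBlock, not_forall] at h
  obtain ⟨a, b, ha, hb, T, haT, hbT, hne⟩ := h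
  obtain ⟨g, rfl⟩ := MulAction.exists_smul_eq G T S
  by_cases he : Ix (g * a * g⁻¹) = Ix x
  · refine ⟨_, hb.conj g, conj_mem_smul g hbT, fun e => hne ?_⟩
    ext z
    have := SetLike.ext_iff.1 (he.trans e.symm) (g * z * g⁻¹)
    rwa [mem_Ix_conj, mem_Ix_conj, show g⁻¹ * (g * z * g⁻¹) * g = z by group] at this
  · exact ⟨_, ha.conj g, conj_mem_smul g haT, he⟩

namespace TwoHyp

variable (T : TwoHyp G)
include T

theorem inter_le {x y z : G} (hx : Multi x) (hy : Multi y) (hne : Ix x ≠ Ix y) (hzx : z ∈ Ix x)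
    (hzy : z ∈ Ix y) : z ∈ Cfsg.pCore 2 G := by
  by_contra hz
  exact hne ((Ix_eq_of_mem T.rg T.below hx hzx hz).2.symm.trans (Ix_eq_of_mem T.rg T.below hy hzy hz).2)

/-- Elements squaring into an intersection are central. -/
theorem commute_of_sq {S : Sylow 2 G} {x : G} (hx : Multi x) (hS : x ∈ (S : Subgroup G)) {z : G}
    (hz : z ∈ (S : Subgroup G)) (hzz : z * z ∈ Ix x) : z ∈ Zc S := by
  obtain ⟨t, n, i, M, B⟩ := exists_blk T.facts T.rg T.below hx hS
  by_cases hzE : z ∈ Ix x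
  · exact mem_Zc.2 ⟨hz, B.cent z hzE⟩
  obtain ⟨y, hy, hyS, hne⟩ := T.two S x hx hS
  obtain ⟨t', n', i', M', B'⟩ := exists_blk T.facts T.rg T.below hy hyS
  obtain ⟨e, he, heD, hee⟩ := B'.exists_inv
  have heS := Ix_le hyS he
  have heE : e ∉ Ix x := fun h => heD (T.inter_le hy hx hne he h)
  obtain ⟨j, hj⟩ := B.trans e heS z hz (B.core_le hee) hzz heE hzE
  have htj : t ^ j • S = S := by
    clear hj
    induction j with
    | zero => rw [pow_zero, one_smul]
    | succ j ih => rw [pow_succ, mul_smul, B.t_smul, ih]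
  rw [← mul_inv_cancel_left (t ^ j * e * (t ^ j)⁻¹) z]
  exact mul_mem (conj_mem_Zc htj (mem_Zc.2 ⟨heS, B'.cent e he⟩)) (mem_Zc.2 ⟨Ix_le hS hj, B.cent _ hj⟩)

theorem sq_Zc_mem_core {S : Sylow 2 G} {x : G} (hx : Multi x) (hS : x ∈ (S : Subgroup G)) {z : G}
    (hz : z ∈ Zc S) : z * z ∈ Cfsg.pCore 2 G := by
  obtain ⟨hzS, hzc⟩ := mem_Zc.1 hz
  have key : ∀ w : G, Multi w → w ∈ (S : Subgroup G) → z * z ∈ Ix w := fun w hw hwS => by
    obtain ⟨t, n, i, M, B⟩ := exists_blk T.facts T.rg T.below hw hwS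
    refine B.c_sq z hzS fun s hs => ?_
    rw [(hzc s hs).eq, mul_inv_cancel_right, mul_inv_cancel]
    exact one_mem _
  obtain ⟨y, hy, hyS, hne⟩ := T.two S x hx hS
  exact T.inter_le hy hx hne (key y hy hyS) (key x hx hS)

theorem sq_mem_Zc {S : Sylow 2 G} {x : G} (hx : Multi x) (hS : x ∈ (S : Subgroup G)) {s : G}
    (hs : s ∈ (S : Subgroup G)) : s * s ∈ Zc S := by
  obtain ⟨t, n, i, M, B⟩ := exists_blk T.facts T.rg T.below hx hS
  exact T.commute_of_sq hx hS (mul_mem hs hs) (B.q4 s hs)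

theorem Wsub_le {S : Sylow 2 G} {x : G} (hx : Multi x) (hS : x ∈ (S : Subgroup G)) : Wsub S ≤ Zc S :=
  (closure_le _).2 fun _ ⟨_, hs, e⟩ => e ▸ T.sq_mem_Zc hx hS hs

theorem two_le_i {S : Sylow 2 G} {x t : G} {n i M : ℕ} (hx : Multi x) (B : Blk S x t n i M) : 2 ≤ i := by
  rcases B.i_mem with hi | hi | hi
  · exfalso
    obtain ⟨a, ha, b, hb, hab⟩ := T.rg.nonab S
    exact hab ((mem_Zc.1 (T.commute_of_sq hx B.mem ha (B.one_sq hi a ha))).2 b hb)
  all_goals omega

/-- The product of the conjugates under the powers of `t`. -/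
theorem exists_avg {S : Sylow 2 G} {x t : G} {n i M : ℕ} (hx : Multi x) (B : Blk S x t n i M) :
    ∃ π : ↥(Zc S) →* ↥(Zc S), (∀ z, (π z : G) ∈ Ix x) ∧ (∀ z : ↥(Zc S), (z : G) ∈ Ix x → π z = z ^ M) ∧
      ∀ z z' : ↥(Zc S), (z' : G) = t * z * t⁻¹ → π z' = π z := by
  classical
  let Z := ↥(Zc S)
  haveI : IsMulCommutative Z := ⟨⟨fun a b => Subtype.ext ((mem_Zc.1 a.2).2 b (mem_Zc.1 b.2).1).eq⟩⟩
  letI : CommGroup Z := { (inferInstance : Group Z) with mul_comm := fun a b => Std.Commutative.comm a b }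
  let ψ : Z →* Z :=
    { toFun := fun z => ⟨t * z * t⁻¹, conj_mem_Zc B.t_smul z.2⟩
      map_one' := Subtype.ext (by simp)
      map_mul' := fun a b => Subtype.ext (show t * ((a : G) * b) * t⁻¹ = t * a * t⁻¹ * (t * b * t⁻¹) by group) }
  have hψ : ∀ (j : ℕ) (z : Z), ((ψ^[j] z : Z) : G) = t ^ j * z * (t ^ j)⁻¹ := fun j z => by
    induction j with
    | zero => simp
    | succ j ih =>
      rw [Function.iterate_succ_apply']
      show t * ((ψ^[j] z : Z) : G) * t⁻¹ = _
      rw [ih, pow_succ']; group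
  let π : Z →* Z :=
    { toFun := fun z => ∏ j ∈ Finset.range M, ψ^[j] z
      map_one' := by
        refine Finset.prod_eq_one fun j _ => Subtype.ext ?_
        rw [hψ]; simp
      map_mul' := fun a b => by
        rw [← Finset.prod_mul_distrib]
        exact Finset.prod_congr rfl fun j _ => iterate_map_mul ψ j a b }
  have hM : ∀ z : Z, ψ^[M] z = z := fun z => Subtype.ext (by
    rw [hψ, (B.t_pow z (mem_Zc.1 z.2).1).eq, mul_inv_cancel_right])
  have hshift : ∀ z : Z, ∏ j ∈ Finset.range M, ψ^[j + 1] z = ∏ j ∈ Finset.range M, ψ^[j] z := by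
    intro z
    have h1 := Finset.prod_range_succ' (fun j => ψ^[j] z) M
    rw [Finset.prod_range_succ, hM] at h1
    exact (mul_right_cancel h1).symm
  have hπψ : ∀ z, π (ψ z) = π z := fun z => by
    show ∏ j ∈ Finset.range M, ψ^[j] (ψ z) = ∏ j ∈ Finset.range M, ψ^[j] z
    rw [← hshift z]
    rfl
  have hψπ : ∀ z, ψ (π z) = π z := fun z => by
    show ψ (∏ j ∈ Finset.range M, ψ^[j] z) = ∏ j ∈ Finset.range M, ψ^[j] z
    rw [map_prod, ← hshift z]
    exact Finset.prod_congr rfl fun j _ => (Function.iterate_succ_apply' ψ j z).symm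
  refine ⟨π, fun z => ?_, fun z hz => ?_, fun z z' h => ?_⟩
  · by_contra hzE
    obtain ⟨hS', -⟩ := mem_Zc.1 (π z).2
    have hzz : (π z : G) * π z ∈ Ix x := B.core_le (T.sq_Zc_mem_core hx B.mem (π z).2)
    have hfix : ∀ j : ℕ, t ^ j * (π z : G) * (t ^ j)⁻¹ = π z := fun j => by
      have h : ∀ j : ℕ, ψ^[j] (π z) = π z := fun j => Function.iterate_fixed (hψπ z) j
      rw [← hψ j, h]
    have hall : ∀ y ∈ (S : Subgroup G), y * y ∈ Ix x → y ∉ Ix x → (π z : G)⁻¹ * y ∈ Ix x := by
      intro y hy hyy hyE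
      obtain ⟨j, hj⟩ := B.trans _ hS' y hy hzz hyy hzE hyE
      rwa [hfix] at hj
    have hpair : ∀ u v : G, u ∈ (S : Subgroup G) → u * u ∈ Ix x → u ∉ Ix x → v ∈ (S : Subgroup G) →
        v * v ∈ Ix x → v ∉ Ix x → u * v ∉ Ix x → False := by
      intro u v hu huu huE hv hvv hvE huv
      have h := mul_mem (inv_mem (hall u hu huu huE)) (hall v hv hvv hvE)
      rw [show ((π z : G)⁻¹ * u)⁻¹ * ((π z : G)⁻¹ * v) = u⁻¹ * v by group] at h
      refine huv ?_
      rw [show u * v = u * u * (u⁻¹ * v) by group]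
      exact mul_mem huu h
    rcases (by have := B.two_le; omega : 3 ≤ n ∨ n = 2) with hn | hn
    · obtain ⟨u, hu, v, hv, w, -, huu, hvv, -, hne⟩ := B.indep hn
      exact hpair u v hu huu (hne u (by simp)) hv hvv (hne v (by simp)) (hne _ (by simp))
    · obtain ⟨u, hu, v, hv, huu, hvv, huE, hvE, huvE, -⟩ := B.two_cases hn
      exact hpair u v hu huu huE hv hvv hvE huvE
  · show ∏ j ∈ Finset.range M, ψ^[j] z = z ^ M
    rw [Finset.prod_congr rfl (g := fun _ => z) fun j _ => Subtype.ext ?_, Finset.prod_const, Finset.card_range]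
    rw [hψ, ((B.t_cent _ hz).pow_left j).eq, mul_inv_cancel_right]
  · rw [show z' = ψ z from Subtype.ext h, hπψ]

/-- The squares generate a group meeting each intersection in the 2-core. -/
theorem Wsub_inf_Ix (hU : SplitU G) {S : Sylow 2 G} {x : G} (hx : Multi x) (hS : x ∈ (S : Subgroup G))
    {w : G} (hw : w ∈ Wsub S) (hwE : w ∈ Ix x) : w ∈ Cfsg.pCore 2 G := by
  classical
  obtain ⟨t, n, i, M, B⟩ := exists_blk T.facts T.rg T.below hx hS
  set D := Cfsg.pCore 2 G
  have hi2 := T.two_le_i hx B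
  rcases (by rcases B.i_mem with h | h | h <;> omega : i = 2 ∨ i = 3) with hi | hi
  · obtain ⟨π, hπE, hπM, hπt⟩ := T.exists_avg hx B
    let Z := ↥(Zc S)
    haveI : IsMulCommutative Z := ⟨⟨fun a b => Subtype.ext ((mem_Zc.1 a.2).2 b (mem_Zc.1 b.2).1).eq⟩⟩
    letI : CommGroup Z := { (inferInstance : Group Z) with mul_comm := fun a b => Std.Commutative.comm a b }
    let DZ : Subgroup Z := D.subgroupOf (Zc S)
    have hπD : ∀ z : Z, (z : G) ∈ D → π z ∈ DZ := fun z hz => by
      rw [hπM z (B.core_le hz)]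
      exact pow_mem (show z ∈ DZ from hz) M
    -- the class of the average of a square
    let sqz : ↥(S : Subgroup G) → Z := fun s => ⟨(s : G) * s, T.sq_mem_Zc hx hS s.2⟩
    let c : ↥(S : Subgroup G) → Z ⧸ DZ := fun s => QuotientGroup.mk (π (sqz s))
    let Y : ↥(S : Subgroup G) → Prop := fun s => (s : G) * s ∈ Ix x
    have hYD : ∀ s, Y s → c s = 1 := fun s hs => by
      refine (QuotientGroup.eq_one_iff _).2 (hπD _ ?_)
      exact T.sq_Zc_mem_core hx hS (T.commute_of_sq hx hS s.2 hs)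
    have hcY : ∀ s y, Y y → c (s * y) = c s := by
      intro s y hy
      have hyc := (mem_Zc.1 (T.commute_of_sq hx hS y.2 hy)).2 (s : G) s.2
      have e : sqz (s * y) = sqz s * sqz y := Subtype.ext (by
        show (s : G) * y * (s * y) = s * s * (y * y)
        rw [← pow_two, hyc.symm.mul_pow, pow_two, pow_two])
      show QuotientGroup.mk (π (sqz (s * y))) = c s
      rw [e, map_mul, QuotientGroup.mk_mul]
      show c s * c y = c s
      rw [hYD y hy, mul_one]
    have hct : ∀ (j : ℕ) (s s' : ↥(S : Subgroup G)), (s' : G) = t ^ j * s * (t ^ j)⁻¹ → c s' = c s := by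
      intro j
      induction j with
      | zero => intro s s' h; rw [show s' = s from Subtype.ext (by simpa using h)]
      | succ j ih =>
        intro s s' h
        have hm : t ^ j * (s : G) * (t ^ j)⁻¹ ∈ (S : Subgroup G) := by
          have e : t⁻¹ * (s' : G) * t = t ^ j * (s : G) * (t ^ j)⁻¹ := by rw [h, pow_succ']; group
          rw [← e]
          have := conj_mem_of_smul_eq (inv_smul_eq_iff.2 B.t_smul.symm) s'.2
          simpa using this
        rw [← ih s ⟨_, hm⟩ rfl]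
        refine congrArg QuotientGroup.mk (hπt _ _ ?_)
        show (s' : G) * s' = t * (t ^ j * s * (t ^ j)⁻¹ * (t ^ j * s * (t ^ j)⁻¹)) * t⁻¹
        rw [h, pow_succ']; group
    have hconst : ∀ s s', ¬ Y s → ¬ Y s' → c s' = c s := by
      intro s s' hs hs'
      obtain ⟨j, hj⟩ := B.trans _ (mul_mem s.2 s.2) _ (mul_mem s'.2 s'.2) (B.q4 s s.2) (B.q4 s' s'.2) hs hs'
      have htj : ∀ j : ℕ, t ^ j * (s : G) * (t ^ j)⁻¹ ∈ (S : Subgroup G) := fun j => by
        refine conj_mem_of_smul_eq ?_ s.2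
        induction j with
        | zero => rw [pow_zero, one_smul]
        | succ j ih => rw [pow_succ, mul_smul, B.t_smul, ih]
      set a : ↥(S : Subgroup G) := ⟨_, htj j⟩
      have ha : ((a : G) * a)⁻¹ * ((s' : G) * s') ∈ Ix x := by
        rw [show (a : G) * a = t ^ j * ((s : G) * s) * (t ^ j)⁻¹ by
          show t ^ j * s * (t ^ j)⁻¹ * (t ^ j * s * (t ^ j)⁻¹) = t ^ j * ((s : G) * s) * (t ^ j)⁻¹
          group]
        exact hj
      rw [← mul_inv_cancel_left a s', hcY a _ (B.sq_inj hi a a.2 s' s'.2 ha), hct j s a rfl]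
    have hone : ∀ s, c s = 1 := by
      obtain ⟨a, ha, b, hb, cc, hc', hind⟩ := B.sq_indep hi
      simp only [List.mem_cons, List.not_mem_nil, or_false] at hind
      let A : ↥(S : Subgroup G) := ⟨a, ha⟩
      let B' : ↥(S : Subgroup G) := ⟨b, hb⟩
      let C : ↥(S : Subgroup G) := ⟨cc, hc'⟩
      have hcom : ∀ p q : ↥(S : Subgroup G), (p : G) * q * (p : G)⁻¹ * (q : G)⁻¹ ∈ Zc S := fun p q => by
        rw [show (p : G) * q * (p : G)⁻¹ * (q : G)⁻¹ =
          p * p * ((p : G)⁻¹ * q * ((p : G)⁻¹ * q)) * ((q : G)⁻¹ * (q : G)⁻¹) by group]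
        exact mul_mem (mul_mem (T.sq_mem_Zc hx hS p.2) (T.sq_mem_Zc hx hS (mul_mem (inv_mem p.2) q.2)))
          (T.sq_mem_Zc hx hS (inv_mem q.2))
      let K : ↥(S : Subgroup G) → ↥(S : Subgroup G) → Z := fun p q => ⟨_, hcom q p⟩
      have hK : ∀ p q : ↥(S : Subgroup G), (q : G) * p = (K p q : G) * (p * q) ∧
          sqz (p * q) = K p q * (sqz p * sqz q) := by
        intro p q
        have hswap : (q : G) * p = (K p q : G) * (p * q) := by
          show (q : G) * p = (q : G) * p * (q : G)⁻¹ * (p : G)⁻¹ * (p * q)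
          group
        refine ⟨hswap, Subtype.ext ?_⟩
        show (p : G) * q * (p * q) = (K p q : G) * (p * p * (q * q))
        calc (p : G) * q * (p * q) = p * (q * p) * q := by group
          _ = p * ((K p q : G) * (p * q)) * q := by rw [hswap]
          _ = (p * (K p q : G)) * (p * (q * q)) := by group
          _ = (K p q : G) * (p * p * (q * q)) := by rw [← ((mem_Zc.1 (K p q).2).2 p p.2).eq]; group
      have e₄ : sqz (A * B' * C) = K A B' * K A C * K B' C * (sqz A * sqz B' * sqz C) := by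
        have hKc : ∀ p q r : ↥(S : Subgroup G), Commute (r : G) (K p q : G) := fun p q r =>
          ((mem_Zc.1 (K p q).2).2 r r.2).symm
        refine Subtype.ext ?_
        have e₁ : (A : G) * B' * (A * B') = (K A B' : G) * (A * A * (B' * B')) :=
          congrArg Subtype.val (hK A B').2
        simp only [sqz, Subgroup.coe_mul]
        have hwu := (hK A C).1
        have hwv := (hK B' C).1
        set k₂ := (K A C : G)
        set k₃ := (K B' C : G)
        set u := (A : G)
        set v := (B' : G)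
        set w := (C : G)
        set k₁ := (K A B' : G)
        have c2 : Commute (u * v) k₂ := (hKc A C A).mul_left (hKc A C B')
        have c3 : Commute (u * v * u) k₃ := ((hKc B' C A).mul_left (hKc B' C B')).mul_left (hKc B' C A)
        have c1 : Commute k₁ (k₂ * k₃) := ((mem_Zc.1 (K A B').2).2 _
          (mul_mem (mem_Zc.1 (K A C).2).1 (mem_Zc.1 (K B' C).2).1))
        calc u * v * w * (u * v * w) = u * v * (w * u) * (v * w) := by group
          _ = u * v * (k₂ * (u * w)) * (v * w) := by rw [hwu]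
          _ = (u * v * k₂) * u * (w * v) * w := by group
          _ = (k₂ * (u * v)) * u * (k₃ * (v * w)) * w := by rw [hwv, c2.eq]
          _ = k₂ * (u * v * u * k₃) * v * w * w := by group
          _ = k₂ * (k₃ * (u * v * u)) * v * w * w := by rw [c3.eq]
          _ = k₂ * k₃ * (u * v * (u * v)) * (w * w) := by group
          _ = k₂ * k₃ * k₁ * (u * u * (v * v) * (w * w)) := by rw [e₁]; group
          _ = k₁ * k₂ * k₃ * (u * u * (v * v) * (w * w)) := by rw [← c1.eq, mul_assoc k₁ k₂ k₃]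
      have E4 : c (A * B' * C) * (c A * c B' * c C) = c (A * B') * c (A * C) * c (B' * C) := by
        simp only [c, ← QuotientGroup.mk_mul, ← map_mul, (hK A B').2, (hK A C).2, (hK B' C).2, e₄]
        refine congrArg QuotientGroup.mk (congrArg π ?_)
        simp only [mul_comm, mul_left_comm, mul_assoc]
      have n1 : ¬ Y A := hind a (Or.inl rfl)
      rw [hconst A (A * B') n1 (hind _ (Or.inr (Or.inr (Or.inr (Or.inl rfl))))),
        hconst A (A * C) n1 (hind _ (Or.inr (Or.inr (Or.inr (Or.inr (Or.inl rfl)))))),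
        hconst A (B' * C) n1 (hind _ (Or.inr (Or.inr (Or.inr (Or.inr (Or.inr (Or.inl rfl))))))),
        hconst A (A * B' * C) n1 (hind _ (Or.inr (Or.inr (Or.inr (Or.inr (Or.inr (Or.inr rfl))))))),
        hconst A B' n1 (hind b (Or.inr (Or.inl rfl))),
        hconst A C n1 (hind cc (Or.inr (Or.inr (Or.inl rfl))))] at E4
      have hA : c A = 1 := mul_eq_right.1 E4
      intro s
      by_cases hs : Y s
      · exact hYD s hs
      · rw [hconst A s n1 hs, hA]
    -- the average kills the squares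
    have hW : ∀ v (hv : v ∈ Wsub S), π ⟨v, T.Wsub_le hx hS hv⟩ ∈ DZ := by
      intro v hv
      induction hv using closure_induction with
      | mem v hv =>
        obtain ⟨s, hs, rfl⟩ := hv
        exact (QuotientGroup.eq_one_iff _).1 (hone ⟨s, hs⟩)
      | one => rw [show (⟨(1 : G), _⟩ : Z) = 1 from rfl, map_one]; exact one_mem _
      | mul a b ha hb iha ihb =>
        rw [show (⟨a * b, _⟩ : Z) = ⟨a, T.Wsub_le hx hS ha⟩ * ⟨b, T.Wsub_le hx hS hb⟩ from rfl, map_mul]
        exact mul_mem iha ihb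
      | inv a ha iha =>
        rw [show (⟨a⁻¹, _⟩ : Z) = (⟨a, T.Wsub_le hx hS ha⟩ : Z)⁻¹ from rfl, map_inv]
        exact inv_mem iha
    have h := hW w hw
    rw [hπM _ hwE, mem_subgroupOf, SubmonoidClass.coe_pow] at h
    obtain ⟨k, hk⟩ := S.isPGroup' ⟨w, Ix_le hS hwE⟩
    have hk' : w ^ 2 ^ k = 1 := by simpa using congrArg Subtype.val hk
    have hcop : Nat.Coprime M (orderOf w) :=
      ((Nat.coprime_two_right.2 B.odd_M).pow_right k).coprime_dvd_right (orderOf_dvd_of_pow_eq_one hk')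
    obtain ⟨m, hm⟩ := exists_pow_eq_self_of_coprime hcop
    exact hm ▸ pow_mem h m
  · obtain ⟨S₀, hS₀, hbot, hsplit⟩ := hU S x t n i M hx B hi
    have hW : ∀ v ∈ Wsub S, ∃ l ∈ S₀, l⁻¹ * v ∈ D := by
      intro v hv
      induction hv using closure_induction with
      | mem v hv =>
        obtain ⟨s, hs, rfl⟩ := hv
        obtain ⟨e, he, hl⟩ := hsplit s hs
        refine ⟨s * e * (s * e), mul_mem hl hl, ?_⟩
        have hee : e * e ∈ D := T.sq_Zc_mem_core hx hS (mem_Zc.2 ⟨Ix_le hS he, B.cent e he⟩)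
        rw [show s * e * (s * e) = s * s * (e * e) by
          rw [← pow_two, (B.cent e he s hs).symm.mul_pow, pow_two, pow_two],
          mul_inv_rev, inv_mul_cancel_right]
        exact inv_mem hee
      | one => exact ⟨1, one_mem _, by rw [inv_one, one_mul]; exact one_mem _⟩
      | mul a b _ _ iha ihb =>
        obtain ⟨l, hl, hla⟩ := iha
        obtain ⟨l', hl', hlb⟩ := ihb
        refine ⟨l * l', mul_mem hl hl', ?_⟩
        rw [show (l * l')⁻¹ * (a * b) = l'⁻¹ * (l⁻¹ * a) * l' * (l'⁻¹ * b) by group]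
        refine mul_mem ?_ hlb
        simpa using Normal.conj_mem (inferInstance : (Cfsg.pCore 2 G).Normal) _ hla l'⁻¹
      | inv a _ iha =>
        obtain ⟨l, hl, hla⟩ := iha
        refine ⟨l⁻¹, inv_mem hl, ?_⟩
        rw [show l⁻¹⁻¹ * a⁻¹ = l * (l⁻¹ * a)⁻¹ * l⁻¹ by group]
        exact Normal.conj_mem (inferInstance : (Cfsg.pCore 2 G).Normal) _ (inv_mem hla) l
    obtain ⟨l, hl, hld⟩ := hW w hw
    have hlE : l ∈ Ix x := by
      rw [show l = w * (l⁻¹ * w)⁻¹ by group]
      exact mul_mem hwE (inv_mem (B.core_le hld))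
    obtain rfl : l = 1 := mem_bot.1 (hbot ▸ (⟨hl, hlE⟩ : l ∈ S₀ ⊓ Ix x))
    simpa using hld

/-- No element outside the 2-core lies in two Sylow subgroups. -/
theorem not_multi (hU : SplitU G) (hT : TITheorem.{u}) {x : G} (hx : Multi x) : False := by
  classical
  haveI := Fact.mk Nat.prime_two
  set D := Cfsg.pCore 2 G
  set π := QuotientGroup.mk' D
  have hs := QuotientGroup.mk'_surjective D
  set Q := G ⧸ D
  have hsyl : ∀ a : Sylow 2 Q, ∃ S : Sylow 2 G, S.mapSurjective hs = a := fun a =>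
    Sylow.mapSurjective_surjective hs 2 a
  have hmem : ∀ {S : Sylow 2 G} {g : G}, π g ∈ (S.mapSurjective hs : Subgroup Q) ↔ g ∈ (S : Subgroup G) :=
    fun {S g} => ⟨fun h => T.rg.mem_of_map (by rwa [Sylow.coe_mapSurjective] at h),
      fun h => by rw [Sylow.coe_mapSurjective]; exact mem_map_of_mem _ h⟩
  have hmulti : ∀ S : Sylow 2 G, ∃ y, Multi y ∧ y ∈ (S : Subgroup G) := fun S => by
    obtain ⟨-, A, -, -, hA, -⟩ := id hx
    obtain ⟨g, rfl⟩ := MulAction.exists_smul_eq G A S
    exact ⟨_, hx.conj g, conj_mem_smul g hA⟩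
  let W : Sylow 2 Q → Subgroup Q := fun a => closure {w | ∃ y ∈ (a : Subgroup Q), y * y = w}
  have hW : ∀ (S : Sylow 2 G) (w : Q), w ∈ W (S.mapSurjective hs) → ∃ v ∈ Wsub S, π v = w := by
    intro S w hw
    have h : W (S.mapSurjective hs) ≤ (Wsub S).map π := by
      refine (closure_le _).2 ?_
      rintro _ ⟨y, hy, rfl⟩
      rw [Sylow.coe_mapSurjective] at hy
      obtain ⟨s, hs', rfl⟩ := hy
      exact ⟨s * s, sq_mem_Wsub hs', map_mul _ _ _⟩
    obtain ⟨v, hv, e⟩ := h hw
    exact ⟨v, hv, e⟩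
  have hcen : ∀ (a : Sylow 2 Q), ∀ w ∈ W a, ∀ s ∈ (a : Subgroup Q), w ∈ (a : Subgroup Q) ∧ Commute w s := by
    intro a w hw s hs'
    obtain ⟨S, rfl⟩ := hsyl a
    obtain ⟨y, hy, hyS⟩ := hmulti S
    obtain ⟨v, hv, rfl⟩ := hW S w hw
    rw [Sylow.coe_mapSurjective] at hs'
    obtain ⟨r, hr, rfl⟩ := hs'
    exact ⟨hmem.2 (mem_Zc.1 (T.Wsub_le hy hyS hv)).1, ((mem_Zc.1 (T.Wsub_le hy hyS hv)).2 r hr).map π⟩
  have C : DClassConf.Conf W := by
    refine
    { conj := fun g a w hw => ?_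
      fix := fun a w hw => DClassConf.smul_eq_of_mem (hcen a w hw 1 (one_mem _)).1
      sq := fun a w hw => ?_
      four := fun a => ?_
      uniq := fun a w hw hw1 b hb => ?_
      closed := fun a p q hp hq hp2 hq2 =>
        DClassConf.twoEl_mem (mul_mem (DClassConf.mem_of_smul_eq hp hp2) (DClassConf.mem_of_smul_eq hq hq2))
      central := fun a w hw s hs' hs2 => (hcen a w hw s (DClassConf.mem_of_smul_eq hs' hs2)).2
      exists_ne := fun a => ?_ }
    · have h : W a ≤ (W (g • a)).comap (MulAut.conj g).toMonoidHom := by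
        refine (closure_le _).2 ?_
        rintro _ ⟨y, hy, rfl⟩
        exact subset_closure ⟨g * y * g⁻¹, conj_mem_smul g hy,
          show g * y * g⁻¹ * (g * y * g⁻¹) = g * (y * y) * g⁻¹ by group⟩
      exact h hw
    · obtain ⟨S, rfl⟩ := hsyl a
      obtain ⟨y, hy, hyS⟩ := hmulti S
      obtain ⟨v, hv, rfl⟩ := hW S w hw
      rw [← map_mul]
      exact (QuotientGroup.eq_one_iff _).2 (T.sq_Zc_mem_core hy hyS (T.Wsub_le hy hyS hv))
    · obtain ⟨S, rfl⟩ := hsyl a
      obtain ⟨y, hy, hyS⟩ := hmulti S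
      obtain ⟨t, n, i, M, B⟩ := exists_blk T.facts T.rg T.below hy hyS
      obtain ⟨u, hu, v, hv, huu, hvv, huE, hvE, huvE⟩ : ∃ u ∈ (S : Subgroup G), ∃ v ∈ (S : Subgroup G),
          u * u ∈ Ix y ∧ v * v ∈ Ix y ∧ u ∉ Ix y ∧ v ∉ Ix y ∧ u * v ∉ Ix y := by
        rcases (by have := B.two_le; omega : 3 ≤ n ∨ n = 2) with hn | hn
        · obtain ⟨u, hu, v, hv, w, -, huu, hvv, -, hne⟩ := B.indep hn
          exact ⟨u, hu, v, hv, huu, hvv, hne u (by simp), hne v (by simp), hne _ (by simp)⟩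
        · obtain ⟨u, hu, v, hv, huu, hvv, huE, hvE, huvE, -⟩ := B.two_cases hn
          exact ⟨u, hu, v, hv, huu, hvv, huE, hvE, huvE⟩
      obtain ⟨a, ha, hau⟩ := B.exists_root (T.two_le_i hy B) u hu huu
      obtain ⟨b, hb, hbv⟩ := B.exists_root (T.two_le_i hy B) v hv hvv
      set p := a * a
      set q := b * b
      have hpE : p ∉ Ix y := fun h => huE (by
        rw [← mul_inv_cancel_left p u]; exact mul_mem h hau)
      have hqE : q ∉ Ix y := fun h => hvE (by
        rw [← mul_inv_cancel_left q v]; exact mul_mem h hbv)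
      have hpqE : p * q ∉ Ix y := fun h => huvE (by
        rw [show u * v = p * (p⁻¹ * u) * (q * (q⁻¹ * v)) by group]
        rw [show p * (p⁻¹ * u) * (q * (q⁻¹ * v)) = p * ((p⁻¹ * u) * q) * (q⁻¹ * v) by group,
          (B.cent _ hau q (mul_mem hb hb)).eq, ← mul_assoc p]
        exact mul_mem (mul_mem h hau) hbv)
      have hp : π p ∈ W (S.mapSurjective hs) := subset_closure ⟨π a, hmem.2 ha, (map_mul _ _ _).symm⟩
      have hq : π q ∈ W (S.mapSurjective hs) := subset_closure ⟨π b, hmem.2 hb, (map_mul _ _ _).symm⟩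
      have hinj : ∀ {g g' : G}, π g = π g' → g⁻¹ * g' ∈ Ix y := fun h => B.core_le (QuotientGroup.eq.1 h)
      have hsub : ({1, π p, π q, π (p * q)} : Set Q) ⊆ (W (S.mapSurjective hs) : Set Q) := by
        rintro z (rfl | rfl | rfl | rfl)
        exacts [one_mem _, hp, hq, by rw [map_mul]; exact mul_mem hp hq]
      have hppE : p * p ∈ Ix y := B.q4 a ha
      have hd1 : (1 : Q) ∉ ({π p, π q, π (p * q)} : Set Q) := by
        simp only [Set.mem_insert_iff, Set.mem_singleton_iff, not_or]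
        refine ⟨fun e => hpE ?_, fun e => hqE ?_, fun e => hpqE ?_⟩ <;>
          simpa using hinj ((map_one π).trans e)
      have hd2 : π p ∉ ({π q, π (p * q)} : Set Q) := by
        simp only [Set.mem_insert_iff, Set.mem_singleton_iff, not_or]
        refine ⟨fun e => hpqE ?_, fun e => hqE ?_⟩
        · rw [show p * q = p * p * (p⁻¹ * q) by group]; exact mul_mem hppE (hinj e)
        · simpa using hinj e
      have hd3 : π q ≠ π (p * q) := fun e => hpE (by
        have h := hinj e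
        have hc : Commute p q := (mem_Zc.1 (T.sq_mem_Zc hy hyS ha)).2 q (mul_mem hb hb)
        rwa [hc.eq, inv_mul_cancel_left] at h)
      have hcard := Set.ncard_le_ncard hsub (Set.toFinite _)
      rw [Set.ncard_insert_of_notMem hd1, Set.ncard_insert_of_notMem hd2, Set.ncard_pair hd3,
        ← Nat.card_coe_set_eq] at hcard
      exact hcard
    · obtain ⟨S, rfl⟩ := hsyl a
      obtain ⟨S', rfl⟩ := hsyl b
      have hwS' := DClassConf.mem_of_smul_eq hb (DClassConf.twoEl_mem (hcen _ w hw 1 (one_mem _)).1)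
      obtain ⟨y, hy, hyS⟩ := hmulti S
      obtain ⟨v, hv, rfl⟩ := hW S w hw
      have hvD : v ∉ D := fun h => hw1 ((QuotientGroup.eq_one_iff _).2 h)
      by_contra hne
      have hm : Multi v :=
        ⟨hvD, S, S', fun e => hne (by rw [e]), (mem_Zc.1 (T.Wsub_le hy hyS hv)).1, hmem.1 hwS'⟩
      exact hvD (T.Wsub_inf_Ix hU hm (mem_Zc.1 (T.Wsub_le hy hyS hv)).1 hv (self_mem_Ix v))
    · obtain ⟨A, B, hAB⟩ := T.rg.exists_two_sylow_quot
      by_cases h : A = a
      · exact ⟨B, fun e => hAB (h.trans e.symm)⟩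
      · exact ⟨A, h⟩
  haveI : FaithfulSMul Q (Sylow 2 Q) := by
    have hk : (MulAction.toPermHom Q (Sylow 2 Q)).ker = ⊥ := by
      set K := (MulAction.toPermHom Q (Sylow 2 Q)).ker
      let P : Sylow 2 ↥K := default
      have hP : ∀ k ∈ (P : Subgroup ↥K), (k : Q) = 1 := by
        intro k hk
        have h2 : SETwoClosed.TwoEl (k : Q) := by
          obtain ⟨j, hj⟩ := DClassConf.twoEl_mem hk
          exact ⟨j, by simpa using congrArg Subtype.val hj⟩
        have hall : ∀ A : Sylow 2 Q, (k : Q) ∈ (A : Subgroup Q) := fun A =>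
          DClassConf.mem_of_smul_eq (Equiv.congr_fun (MonoidHom.mem_ker.1 k.2) A) h2
        have hle : (⨅ A : Sylow 2 Q, (A : Subgroup Q)) ≤ Cfsg.pCore 2 Q := by
          haveI : (⨅ A : Sylow 2 Q, (A : Subgroup Q)).Normal := ⟨fun z hz g => by
            rw [mem_iInf] at hz ⊢
            intro A
            have := conj_mem_smul g (hz (g⁻¹ • A))
            rwa [smul_inv_smul] at this⟩
          exact PLocal.Cores.le_pCore ((default : Sylow 2 Q).isPGroup'.to_le (iInf_le _ _))
        have h := hle (mem_iInf.2 hall)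
        rwa [PLocal.Cores.pCore_quotient_pCore, mem_bot] at h
      have hodd : Odd (Nat.card ↥K) := by
        have hbot : (P : Subgroup ↥K) = ⊥ := (eq_bot_iff_forall _).2 fun k hk => Subtype.ext (hP k hk)
        have := P.not_dvd_index
        rw [hbot, index_bot] at this
        rwa [Nat.odd_iff, ← Nat.two_dvd_ne_zero]
      exact le_bot_iff.1 ((InvChar.Core.le_oddCore (MonoidHom.normal_ker _) hodd).trans T.rg.oddCore_quot.le)
    exact ⟨fun {g h} e => (MonoidHom.ker_eq_bot_iff _).1 hk (Equiv.ext e)⟩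
  obtain ⟨n, i, d⟩ := C.data hT T.facts (DClassConf.noMultiBelow hT T.facts (Nat.card Q + 1))
    (Nat.lt_succ_self _)
  obtain ⟨hxD, A, B, hAB, hxA, hxB⟩ := id hx
  have hne : A.mapSurjective hs ≠ B.mapSurjective hs := fun e =>
    hAB (Sylow.ext (SetLike.ext fun g => by rw [← hmem, e, hmem]))
  refine hxD ((QuotientGroup.eq_one_iff x).1 (d.eq_one (π x) _ _ hne ?_ ?_ ?_))
  · exact DClassConf.smul_eq_of_mem (hmem.2 hxA)
  · exact DClassConf.smul_eq_of_mem (hmem.2 hxB)
  · exact DClassConf.twoEl_mem (hmem.2 hxA)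

end TwoHyp

end Cfsg.Agent.CISylow
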