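import Cfsg.Agent.Lib.CISylow.Outcomes
import Cfsg.Agent.Lib.SECoreTwoClosed.UThree.Setup

/-!
# The case division for groups with central Sylow 2-intersections
-/

set_option autoImplicit false
set_option linter.style.haveILetI false
set_option linter.unusedSectionVars false

namespace Cfsg.Agent.CISylow

open Subgroup
open Cfsg.Agent.CyclicSylowInter (KindTI)

universe u

variable {G : Type u} [Group G] [Finite G]

/-- When the top is a 2-group the 2-length is at most one. -/
theorem pLength_of_top (h : IsPGroup 2 ↥(Top G)) : Cfsg.PLengthLE 2 1 G := by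
  haveI := Fact.mk Nat.prime_two
  obtain ⟨S⟩ : Nonempty (Sylow 2 G) := inferInstance
  have hle : (S : Subgroup G) ≤ Cfsg.pPrimePCore 2 G := fun s hs =>
    PLocal.Cores.le_pCore (N := Top G) h (map_O2'_eq.le (mem_map_of_mem _ (le_O2' S hs)))
  rw [OddLocal.pLengthLE_one_iff, Nat.coprime_two_right, Nat.odd_iff, ← Nat.two_dvd_ne_zero]
  exact fun hd => S.not_dvd_index (hd.trans (index_dvd_of_le hle))

/-- The conclusion, given the central quotient of the top. -/
theorem goal_of_top (hC : CI G)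
    (hk : ∀ S : Sylow 2 G, (∃ x ∈ (S : Subgroup G), ∃ s ∈ (S : Subgroup G), ¬ Commute x s) →
      ¬ IsPGroup 2 ↥(Top G) → KindTI (↥(Top G) ⧸ center ↥(Top G))) :
    (Group.IsSolvable G ∧ Cfsg.PLengthLE 2 1 G) ∨
    (∀ S : Sylow 2 G, IsMulCommutative ↥(S : Subgroup G)) ∨ AltFive G ∨ AltTI G := by
  by_cases hab : ∀ S : Sylow 2 G, IsMulCommutative ↥(S : Subgroup G)
  · exact Or.inr (Or.inl hab)
  push Not at hab
  obtain ⟨S, hS⟩ := hab
  have hne : ∃ x ∈ (S : Subgroup G), ∃ s ∈ (S : Subgroup G), ¬ Commute x s := by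
    by_contra! h
    exact hS ⟨⟨fun a b => Subtype.ext (h a a.2 b b.2).eq⟩⟩
  by_cases hp : IsPGroup 2 ↥(Top G)
  · exact Or.inl ⟨SECoreTwoClosed.isSolvable_of_pLengthLE (pLength_of_top hp), pLength_of_top hp⟩
  · exact Or.inr (Or.inr (outcome hC S hne (hk S hne hp)))

end Cfsg.Agent.CISylow
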